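import Groth.Agent.AlgGrp1.NormalizerBorel
import Groth.Agent.AlgGrp1.CartanBorel

/-!
The Weyl group is finite and acts freely on the Borel subgroups containing the torus.
-/

set_option autoImplicit false
set_option linter.style.haveILetI false
universe u

open CategoryTheory Limits MonoidalCategory CartesianMonoidalCategory MonObj GrpObj AlgebraicGeometry
open TopologicalSpace Groth.AlgGrp1

noncomputable section

namespace Groth.Agf2

variable {k : Type u} [Field k]

section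

variable {G H H' : Over (Spec (CommRingCat.of k))} [GrpObj G]

/-- A point conjugating a subgroup onto itself normalizes it. -/
theorem normalizes_of_iso (i : H ⟶ G) (g : 𝟙_ (Over (Spec (CommRingCat.of k))) ⟶ G) (e : H ≅ H)
    (he : e.hom ≫ i = AGF.conjBy g i) : Normalizes i g := by
  intro X' x h
  have h' : e.inv ≫ i = AGF.conjBy g⁻¹ i := by
    rw [← cancel_epi e.hom, e.hom_inv_id_assoc, comp_conjBy', he, conjBy_conjBy, inv_mul_cancel, conjBy_one]
  rw [toUnit_unique x (toUnit X')]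
  exact ⟨⟨h ≫ e.hom, by rw [Category.assoc, he, comp_conjBy]⟩,
    ⟨h ≫ e.inv, by rw [Category.assoc, h', comp_conjBy, GrpObj.comp_inv, _root_.inv_inv]⟩⟩

theorem conjBy_factor [GrpObj H'] (i : H' ⟶ G) [IsMonHom i] (b : 𝟙_ (Over (Spec (CommRingCat.of k))) ⟶ H')
    (j : H ⟶ H') : AGF.conjBy (b ≫ i) (j ≫ i) = AGF.conjBy b j ≫ i := by
  simp only [AGF.conjBy, MonObj.mul_comp, GrpObj.inv_comp, Category.assoc]

end

variable [IsAlgClosed k] {G T B : Over (Spec (CommRingCat.of k))} [GrpObj G] [GrpObj T] [GrpObj B]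
  [IsAffine G.left] [Smooth G.hom]

/-- A point normalizing a maximal torus and a Borel subgroup containing it centralizes the torus. -/
theorem conjBy_eq_of_normalizes [ConnectedSpace G.left] {iT : T ⟶ G} {iB : B ⟶ G} (hT : AGF.IsMaxTorus iT)
    (hB : Red.IsBorelOver k iB) (t : T ⟶ B) (ht : t ≫ iB = iT)
    (n : 𝟙_ (Over (Spec (CommRingCat.of k))) ⟶ G) (τ : T ≅ T) (hτ : τ.hom ≫ iT = AGF.conjBy n iT)
    (σ : B ≅ B) (hσ : σ.hom ≫ iB = AGF.conjBy n iB) : AGF.conjBy n iT = iT := by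
  obtain ⟨b, rfl⟩ := mem_borel_of_normalizes hB n (normalizes_of_iso iB n σ hσ)
  obtain ⟨hmB, hcB, hsB, hnB, hsol, -⟩ := id hB
  haveI := hmB; haveI := hcB; haveI := hsB; haveI := hnB
  haveI : Mono iB := Over.mono_of_mono_left iB
  obtain ⟨htm, π, hπm, hπ, -⟩ := exists_retraction_of_isMaxTorus iB hsol hT t ht
  subst ht
  haveI := hπm
  rw [conjBy_factor] at hτ ⊢
  rw [← Category.assoc, cancel_mono] at hτ
  have h1 := congrArg (· ≫ π) hτ
  simp only [Category.assoc, hπ, Category.comp_id, AGF.conjBy, MonObj.mul_comp, GrpObj.inv_comp,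
    Groth.Reductive2.torus_mul_comm hT.2.2.1 (toUnit T ≫ b ≫ π) (𝟙 T), mul_inv_cancel_right] at h1
  rw [h1, Category.id_comp] at hτ
  rw [← hτ]

/-- Finitely many conjugation maps on a torus come from points normalizing it. -/
theorem finite_conjBy_of_normalizes (iT : T ⟶ G) [IsMonHom iT] [Mono iT] (hT : Red.IsTorus T) :
    Set.Finite {f : T ⟶ G | ∃ n, Normalizes iT n ∧ f = AGF.conjBy n iT} := by
  classical
  obtain ⟨-, N, _, nT, hN, hNc, hNs⟩ := Groth.Agent.S3006.result _ G T iT (isClosedImmersion_of_isTorus iT hT) hT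
  haveI := hNc; haveI := hNs; haveI := hN.1
  haveI : IsSeparated N.hom := by rw [← Over.w nT]; infer_instance
  haveI : QuasiCompact N.hom := by rw [← Over.w nT]; infer_instance
  haveI := isLocallyNoetherian_left N
  haveI : CompactSpace N.left := QuasiCompact.compactSpace_of_compactSpace N.hom
  haveI : AlgebraicGeometry.IsNoetherian N.left := ⟨⟩
  have hfin : (irreducibleComponents N.left).Finite := TopologicalSpace.NoetherianSpace.finite_irreducibleComponents
  haveI := hfin.to_subtype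
  haveI : LocallyOfFiniteType T.hom := by
    obtain ⟨-, hTs, -⟩ := isAffine_smooth_connected_of_isTorus hT
    infer_instance
  let comp : (𝟙_ (Over (Spec (CommRingCat.of k))) ⟶ N) → irreducibleComponents N.left := fun ν =>
    ⟨irreducibleComponent (rpt ν), irreducibleComponent_mem_irreducibleComponents _⟩
  let F : (𝟙_ (Over (Spec (CommRingCat.of k))) ⟶ N) → (T ⟶ G) := fun ν => AGF.conjBy (ν ≫ nT) iT
  have key : ∀ ν ξ, comp ν = comp ξ → F ν = F ξ := by
    intro ν ξ h
    have h' : irreducibleComponent (rpt ν) = irreducibleComponent (rpt ξ) := congrArg Subtype.val h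
    obtain ⟨Y, y, hyc, hYr, hyr⟩ := exists_reduced_closedSet (irreducibleComponent (rpt ν))
      isClosed_irreducibleComponent
    haveI := hyc
    haveI : LocallyOfFiniteType Y.hom := by rw [← Over.w y]; infer_instance
    haveI : QuasiCompact Y.hom := by rw [← Over.w y]; infer_instance
    haveI : IsSeparated Y.hom := by rw [← Over.w y]; infer_instance
    haveI : PreconnectedSpace Y.left := by
      rw [preconnectedSpace_iff_univ]
      refine y.left.isClosedEmbedding.isInducing.isPreconnected_image.1 ?_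
      rw [Set.image_univ, hyr]
      exact isIrreducible_irreducibleComponent.isPreirreducible.isPreconnected
    obtain ⟨yi, hyi⟩ := exists_rpt_lift y ν (hyr ▸ mem_irreducibleComponent)
    obtain ⟨yl, hyl⟩ := exists_rpt_lift y ξ (hyr ▸ (h' ▸ mem_irreducibleComponent))
    obtain ⟨J, hJ⟩ := ((hN.2.2 Y (y ≫ nT)).1 ⟨y, rfl⟩ (Y ⊗ T) (fst Y T) (snd Y T)).1
    have hJl : ∀ {W : Over (Spec (CommRingCat.of k))} (a : W ⟶ Y) (s : W ⟶ T),
        (lift a s ≫ J) ≫ iT = (a ≫ y ≫ nT) * (s ≫ iT) * (a ≫ y ≫ nT)⁻¹ := fun a s => by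
      rw [Category.assoc, ← hJ]
      simp [MonObj.comp_mul, GrpObj.comp_inv]
    have key := pointed_family_hom_const yi (Groth.Reductive.FreeDiag.isMultTypeFT_of_isTorus hT)
      (fun W a b => Groth.Reductive2.torus_mul_comm hT a b) J
      (fun W a s s' => by
        rw [← cancel_mono iT, MonObj.mul_comp (lift a s ≫ J), hJl, hJl, hJl, MonObj.mul_comp]
        group)
      (toUnit T ≫ yl) (𝟙 T)
    have h2 := congrArg (· ≫ iT) key
    simp only [hJl, Category.id_comp, Category.assoc, reassoc_of% hyl, reassoc_of% hyi] at h2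
    exact h2.symm
  refine (Set.Finite.subset (Set.finite_range fun c : Set.range comp => F c.2.choose) ?_)
  rintro f ⟨n, hn, rfl⟩
  obtain ⟨ν, rfl⟩ := (hN.2.2 _ n).2 hn
  exact ⟨⟨comp ν, ν, rfl⟩, key _ _ (Set.mem_range_self (f := comp) ν).choose_spec⟩

/-- Finitely many Borel subgroups contain a given maximal torus. -/
theorem finite_borels [ConnectedSpace G.left] {iT : T ⟶ G} (hT : AGF.IsMaxTorus iT) :
    Set.Finite {P : Subobject G | ∃ (B : Over (Spec (CommRingCat.of k))) (_ : GrpObj B) (iB : B ⟶ G) (_ : Mono iB),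
      Red.IsBorelOver k iB ∧ (∃ t : T ⟶ B, t ≫ iB = iT) ∧ P = Subobject.mk iB} := by
  classical
  by_cases hne : ∃ (B : Over (Spec (CommRingCat.of k))) (_ : GrpObj B) (iB : B ⟶ G) (_ : Mono iB),
      Red.IsBorelOver k iB ∧ ∃ t : T ⟶ B, t ≫ iB = iT
  swap
  · refine Set.Finite.subset Set.finite_empty ?_
    rintro P ⟨B, _, iB, _, hB, ht, -⟩
    exact hne ⟨B, inferInstance, iB, inferInstance, hB, ht⟩
  obtain ⟨B₀, _, i₀, _, hB₀, t₀, ht₀⟩ := hne
  haveI := hT.1; haveI := hT.2.1
  haveI := hB₀.1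
  obtain ⟨⟨C, _, c, hc, -, -⟩, -⟩ := Groth.Agent.S3006.result _ G T iT
    (isClosedImmersion_of_isTorus iT hT.2.2.1) hT.2.2.1
  obtain ⟨fC, hfC⟩ := centralizer_le_borelOver hT hc hB₀ t₀ ht₀
  let E := {f : T ⟶ G | ∃ n, Normalizes iT n ∧ f = AGF.conjBy n iT}
  haveI : Finite E := (finite_conjBy_of_normalizes iT hT.2.2.1).to_subtype
  let sub : E → Subobject G := fun f =>
    haveI := mono_conjBy f.2.choose i₀
    Subobject.mk (AGF.conjBy f.2.choose i₀)
  refine Set.Finite.subset (Set.finite_range sub) ?_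
  rintro P ⟨B, _, iB, _, hB, ⟨t, ht⟩, rfl⟩
  haveI := hB.1
  obtain ⟨n, σ, τ, hσ, hτ⟩ := borelPair_conj hB₀ hB hT hT t₀ ht₀ t ht
  refine ⟨⟨_, n, normalizes_of_iso iT n τ hτ, rfl⟩, ?_⟩
  set f : E := ⟨_, n, normalizes_of_iso iT n τ hτ, rfl⟩ with hfdef
  have hf : AGF.conjBy n iT = AGF.conjBy f.2.choose iT := f.2.choose_spec.2
  set n' := f.2.choose
  have hm : ∀ (X' : Over (Spec (CommRingCat.of k))) (x : X' ⟶ 𝟙_ _) (h : X' ⟶ T),
      (x ≫ (n⁻¹ * n')) * (h ≫ iT) = (h ≫ iT) * (x ≫ (n⁻¹ * n')) := fun X' x h => by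
    have e : AGF.conjBy (n⁻¹ * n') iT = iT := by
      rw [← conjBy_conjBy, ← hf, conjBy_conjBy, inv_mul_cancel, conjBy_one]
    have h1 := congrArg (h ≫ ·) e
    simp only [comp_conjBy] at h1
    rw [toUnit_unique x (toUnit X')]
    exact mul_inv_eq_iff_eq_mul.1 h1
  obtain ⟨z, hz⟩ := (hc.2.2 _ (n⁻¹ * n')).2 hm
  have hn' : n' = n * ((z ≫ fC) ≫ i₀) := by rw [Category.assoc, hfC, hz, mul_inv_cancel_left]
  have hbiso := conjBy_id_iso (z ≫ fC)
  have := mono_conjBy n' i₀
  show Subobject.mk (AGF.conjBy n' i₀) = Subobject.mk iB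
  refine Subobject.mk_eq_mk_of_comm _ _ (asIso (AGF.conjBy (z ≫ fC) (𝟙 B₀)) ≪≫ σ) ?_
  rw [Iso.trans_hom, asIso_hom, Category.assoc, hσ, hn', ← conjBy_conjBy, comp_conjBy', ← conjBy_factor,
    Category.id_comp]

end Groth.Agf2
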