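import Groth.Agent.URad.Apply
import Groth.Agent.AlgGrp1.NormalizerBorel
import Groth.Agent.AlgGrpIsog.Geom

/-!
The unipotent part of a connected solvable group.
-/

set_option autoImplicit false
set_option linter.style.haveILetI false
universe u

open CategoryTheory Limits MonoidalCategory CartesianMonoidalCategory MonObj GrpObj AlgebraicGeometry
open Groth.AlgGrp1

noncomputable section

namespace Groth.Agf2

variable {k : Type u} [Field k] [IsAlgClosed k]

/-- A homomorphism from a unipotent group to a torus is trivial. -/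
theorem unip_hom_torus_eq_one {E T : Over (Spec (CommRingCat.of k))} [GrpObj E] [GrpObj T]
    (hE : Groth.URad.IsUnip E) (hT : Red.IsTorus T) (g : E ⟶ T) [IsMonHom g] : g = 1 := by
  obtain ⟨r, e, he⟩ := exists_diag_iso_of_isTorus hT
  haveI := he
  haveI := Groth.URad.isMonHom_inv e
  obtain ⟨B, _, _, _, f, hf, hB⟩ := hE
  haveI := hf
  obtain ⟨φ, hφ⟩ := exists_bialgHom_of_isMonHom (f.hom ≫ g ≫ e.inv)
  have h1 : f.hom ≫ g ≫ e.inv = 1 := by
    rw [← hφ, ← MonObj.comp_one (CoactBr.pt (Algebra.ofId k B)), CoactBr.one_eq_pt, ← CoactBr.pt_comp]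
    refine congrArg CoactBr.pt (MonoidAlgebra.algHom_ext (fun m => ?_) (Subsingleton.elim _ _))
    have hg : IsGroupLikeElem k (MonoidAlgebra.single m (1 : k)) := by
      refine ⟨?_, ?_⟩ <;> simp
    have h2 : φ (MonoidAlgebra.single m 1) = 1 :=
      Groth.Misc1.Unip.groupLike_eq_one (fun b : B => Groth.ComodLib.exists_mem_fixSeries hB b) (hg.map φ)
    show φ (MonoidAlgebra.single m 1) = _
    rw [h2]
    simp
  rw [← cancel_epi f.hom, ← cancel_mono e.inv, Category.assoc, h1, MonObj.comp_one, MonObj.one_comp]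

/-- The kernel of a retraction onto a torus absorbing all subtori is the unipotent radical. -/
theorem exists_unipotentPart {B T : Over (Spec (CommRingCat.of k))} [GrpObj B] [GrpObj T] [IsAffine B.left]
    [Smooth B.hom] [ConnectedSpace B.left] (hT : Red.IsTorus T) (t : T ⟶ B) [IsMonHom t] (π : B ⟶ T)
    [IsMonHom π] (hπ : t ≫ π = 𝟙 T)
    (habs : ∀ (U : Over (Spec (CommRingCat.of k))) [GrpObj U] (j : U ⟶ B) [IsMonHom j], Red.IsTorus U →
      ∃ b : 𝟙_ (Over (Spec (CommRingCat.of k))) ⟶ B, (j ≫ π) ≫ t = AGF.conjBy b j) :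
    ∃ (U : Over (Spec (CommRingCat.of k))) (_ : GrpObj U) (u : U ⟶ B), IsMonHom u ∧ IsClosedImmersion u.left ∧
      Smooth U.hom ∧ ConnectedSpace U.left ∧ AlgGrp.IsNormalHom u ∧ Groth.URad.IsUnip U ∧
      Par.IsUnipotentRadical u ∧
      ∀ (W : Over (Spec (CommRingCat.of k))) (g : W ⟶ B), (∃ z, z ≫ u = g) ↔ g ≫ π = 1 := by
  obtain ⟨hTa, hTs, hTc⟩ := isAffine_smooth_connected_of_isTorus hT
  have : IsSeparated T.hom := isSeparated_grpObj T
  obtain ⟨U, u, huc, hu⟩ := exists_equalizer π (1 : B ⟶ T)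
  have : Mono u := Over.mono_of_mono_left u
  simp only [MonObj.comp_one] at hu
  obtain ⟨_, hum⟩ := Groth.Agf.exists_grpObj_of_subgroup u (fun W g => g ≫ π = 1) hu
    (fun W => MonObj.one_comp π)
    (fun W a b ha hb => by rw [MonObj.mul_comp, ha, hb, _root_.mul_one])
    (fun W a ha => by rw [GrpObj.inv_comp, ha, inv_one])
  have hnorm : AlgGrp.IsNormalHom u := fun W g n => by
    obtain ⟨m, hm⟩ := (hu W (g * (n ≫ u) * g⁻¹)).2 (by
      rw [MonObj.mul_comp, MonObj.mul_comp, (hu _ (n ≫ u)).1 ⟨n, rfl⟩, _root_.mul_one, GrpObj.inv_comp,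
        mul_inv_cancel])
    exact ⟨m, hm.symm⟩
  -- the projection onto the kernel
  obtain ⟨r, hr⟩ := (hu B ((π ≫ t)⁻¹ * 𝟙 B)).2 (by
    simp only [MonObj.mul_comp, GrpObj.inv_comp, Category.assoc, hπ, Category.comp_id, Category.id_comp,
      inv_mul_cancel])
  have hru : u ≫ r = 𝟙 U := by
    rw [← cancel_mono u, Category.assoc, hr, MonObj.comp_mul, GrpObj.comp_inv, ← Category.assoc u,
      (hu _ u).1 ⟨𝟙 U, Category.id_comp u⟩, MonObj.one_comp, Category.comp_id, inv_one, _root_.one_mul,
      Category.id_comp]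
  have hrs : Surjective r.left := ⟨fun x => ⟨u.left.base x, by
    rw [← Scheme.Hom.comp_apply, ← Over.comp_left, hru]; rfl⟩⟩
  let e : B ≅ T ⊗ U := ⟨lift π r, (fst T U ≫ t) * (snd T U ≫ u), by
    rw [MonObj.comp_mul, lift_fst_assoc, lift_snd_assoc, hr, mul_inv_cancel_left], by
    have h2 : ((fst T U ≫ t) * (snd T U ≫ u)) ≫ π = fst T U := by
      rw [MonObj.mul_comp, Category.assoc, hπ, Category.comp_id, (hu _ (snd T U ≫ u)).1 ⟨_, rfl⟩, _root_.mul_one]
    refine CartesianMonoidalCategory.hom_ext _ _ (by rw [Category.assoc, lift_fst, h2, Category.id_comp]) ?_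
    rw [← cancel_mono u, Category.assoc, Category.assoc, lift_snd_assoc, hr, Category.id_comp, MonObj.comp_mul,
      GrpObj.comp_inv, ← Category.assoc _ π, h2, Category.comp_id, inv_mul_cancel_left]⟩
  have : IsIso e.hom.left := Iso.isIso_hom ((Over.forget _).mapIso e)
  have : Flat r.left := by
    rw [show r = e.hom ≫ snd T U from (lift_snd _ _).symm, Over.comp_left]
    have : Flat (snd T U).left := inferInstanceAs (Flat (pullback.snd T.hom U.hom))
    infer_instance
  have : LocallyOfFiniteType U.hom := by rw [← Over.w u]; infer_instance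
  have : QuasiCompact U.hom := by rw [← Over.w u]; infer_instance
  have := geometricallyReduced_of_smooth_hom B
  have := geometricallyReduced_of_flat_surjective r
  have : Smooth U.hom := Groth.GrpschAbsch.smooth_of_geometricallyReduced U
  have : ConnectedSpace U.left := r.left.surjective.connectedSpace r.left.continuous
  have : IsAffine U.left := isAffine_of_isAffineHom u.left
  have hns : Red.HasNoSubtorus k U := by
    intro S _ j _ _ hS
    obtain ⟨b, hb⟩ := habs S (j ≫ u) hS
    rw [(hu _ (j ≫ u)).1 ⟨j, rfl⟩, MonObj.one_comp] at hb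
    have hj : j ≫ u = 1 := by
      have := congrArg (AGF.conjBy b⁻¹) hb
      rw [conjBy_conjBy, inv_mul_cancel, conjBy_one] at this
      rw [← this]
      simp [AGF.conjBy, MonObj.comp_one]
    have hj1 : j = 1 := (cancel_mono u).1 (by rw [hj, MonObj.one_comp])
    have hid : (𝟙 S : S ⟶ S) = toUnit S ≫ η[S] := by
      rw [← cancel_mono j, Category.assoc, hj1, MonObj.comp_one, MonObj.comp_one, MonObj.comp_one]
    have : IsIso (toUnit S) := ⟨η[S], hid.symm, toUnit_unique _ _⟩
    show IsIso S.hom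
    rw [show S.hom = (toUnit S).left by simpa using (Over.w (toUnit S)).symm]
    exact inferInstanceAs (IsIso ((Over.forget _).map (toUnit S)))
  have hU := Groth.URad.isUnip_of_hasNoSubtorus U hns
  refine ⟨U, inferInstance, u, hum, huc, inferInstance, inferInstance, hnorm, hU,
    (Groth.URad.isUnipotentRadical_iff u).2 ⟨hum, huc, hnorm, inferInstance, inferInstance, hU,
      fun H _ j _ _ _ _ _ hH => (hu H j).2 (unip_hom_torus_eq_one hH hT (j ≫ π))⟩, hu⟩

end Groth.Agf2
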