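import Groth.Agent.Agf2.Chev.Main
import Groth.Agent.AlgGrp1.BorelCentralizer
import Groth.Agent.AlgGrp1.CartanField
import Groth.Agent.AlgGrp1.TorusField
import Groth.Agent.S3006
import Groth.Agent.S17100
import Groth.Agent.TorusPts.Affine
import Groth.Agent.URad.BaseChange

/-!
Centralizers of tori in reductive groups.
-/

set_option autoImplicit false
set_option linter.style.haveILetI false
universe u

open CategoryTheory Limits MonoidalCategory CartesianMonoidalCategory MonObj GrpObj AlgebraicGeometry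
open Groth.AlgGrp1

noncomputable section

namespace Groth.Agf2.RedCent

variable {k : Type u} [Field k]

/-- A torus over a field is affine and smooth. -/
theorem isAffine_smooth_of_isTorus {T : Over (Spec (CommRingCat.of k))} [GrpObj T] (hT : Red.IsTorus T) :
    IsAffine T.left ∧ Smooth T.hom := by
  obtain ⟨r, L, _, _, hL⟩ := exists_split_field_of_isTorus hT
  have hT' := isTorus_bc (Red.geomPt (spt k)) hT
  exact ⟨Groth.TorusPts.isAffine_of_split T L hL,
    smooth_of_bc (Red.geomPt (spt k)) (isAffine_smooth_connected_of_isTorus hT').2.1⟩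

/-- A subtorus over a field is a closed subgroup. -/
theorem isClosedImmersion_torus {T G : Over (Spec (CommRingCat.of k))} [GrpObj G] [GrpObj T] [IsAffine G.left]
    [Smooth G.hom] (j : T ⟶ G) [IsMonHom j] [Mono j] (hT : Red.IsTorus T) : IsClosedImmersion j.left := by
  obtain ⟨_, _⟩ := isAffine_smooth_of_isTorus hT
  exact isClosedImmersion_of_mono_hom j

/-- A torus commutes with itself. -/
theorem torus_comm {T G : Over (Spec (CommRingCat.of k))} [GrpObj G] [GrpObj T] {iT : T ⟶ G} [IsMonHom iT]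
    (hT : Red.IsTorus T) {X : Over (Spec (CommRingCat.of k))} (a b : X ⟶ T) :
    (a ≫ iT) * (b ≫ iT) = (b ≫ iT) * (a ≫ iT) := by
  rw [← MonObj.mul_comp, ← MonObj.mul_comp, Groth.Reductive2.torus_mul_comm hT a b]

/-- The torus lies in its centralizer. -/
theorem exists_le_centralizer {T C G : Over (Spec (CommRingCat.of k))} [GrpObj G] [GrpObj T] [GrpObj C]
    {iT : T ⟶ G} [IsMonHom iT] (hT : Red.IsTorus T) {c : C ⟶ G} (hc : Red.IsCentralizerOf iT c) :
    ∃ t : T ⟶ C, t ≫ c = iT ∧ IsMonHom t := by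
  obtain ⟨t, ht⟩ := (hc.2.2 T iT).2 fun X' x y => torus_comm hT x y
  haveI := hc.1; haveI := hc.2.1
  exact ⟨t, ht, isMonHom_of_points _ fun W p q => by
    rw [← cancel_mono c, Category.assoc, ht, MonObj.mul_comp, MonObj.mul_comp, Category.assoc, ht,
      Category.assoc, ht]⟩

/-- Centralizers of tori are closed and smooth. -/
theorem centralizer_closed {T C G : Over (Spec (CommRingCat.of k))} [GrpObj G] [GrpObj T] [GrpObj C]
    [IsAffine G.left] [Smooth G.hom] (iT : T ⟶ G) [IsMonHom iT] [Mono iT] (hT : Red.IsTorus T) {c : C ⟶ G}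
    (hc : Red.IsCentralizerOf iT c) : IsClosedImmersion c.left ∧ Smooth C.hom := by
  obtain ⟨⟨Z, _, z, hz, hzc, hzs⟩, -⟩ := Groth.Agent.S3006.result _ G T iT (isClosedImmersion_torus iT hT) hT
  obtain ⟨a, ha⟩ := (hz.2.2 C c).2 ((hc.2.2 C c).1 ⟨𝟙 C, Category.id_comp c⟩)
  obtain ⟨b, hb⟩ := (hc.2.2 Z z).2 ((hz.2.2 Z z).1 ⟨𝟙 Z, Category.id_comp z⟩)
  haveI := hc.2.1; haveI := hz.2.1; haveI := hzc; haveI := hzs
  have : IsIso a := ⟨b, by rw [← cancel_mono c, Category.assoc, hb, ha, Category.id_comp],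
    by rw [← cancel_mono z, Category.assoc, ha, hb, Category.id_comp]⟩
  have : IsIso a.left := inferInstanceAs (IsIso ((Over.forget _).map a))
  refine ⟨by rw [← ha, Over.comp_left]; infer_instance, ?_⟩
  rw [← Over.w a]
  infer_instance

variable [IsAlgClosed k] {G : Over (Spec (CommRingCat.of k))} [GrpObj G] [IsAffine G.left] [Smooth G.hom]
  [ConnectedSpace G.left]

/-- A connected unipotent subgroup contained in every Borel subgroup containing a maximal torus lies in the
unipotent radical. -/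
theorem unip_le_radical {U : Over (Spec (CommRingCat.of k))} [GrpObj U] {u : U ⟶ G} (hU : Par.IsUnipotentRadical u)
    {T : Over (Spec (CommRingCat.of k))} [GrpObj T] {iT : T ⟶ G} (hT : AGF.IsMaxTorus iT)
    {H : Over (Spec (CommRingCat.of k))} [GrpObj H] (j : H ⟶ G) [IsMonHom j] [IsClosedImmersion j.left]
    [Smooth H.hom] [ConnectedSpace H.left] (hu : Groth.URad.IsUnip H)
    (h : ∀ (B : Over (Spec (CommRingCat.of k))) [GrpObj B] (iB : B ⟶ G) (t : T ⟶ B), Red.IsBorelOver k iB →
      t ≫ iB = iT → ∃ f : H ⟶ B, f ≫ iB = j) :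
    ∃ g : H ⟶ U, g ≫ u = j := by
  refine Groth.Agf2.Chev.le_unipotentRadical u hU iT hT j fun B _ iB t hB ht V _ v hV => ?_
  obtain ⟨f, hf⟩ := h B iB t hB ht
  obtain ⟨hmB, hcB, hsB, hnB, hsol, -⟩ := id hB
  haveI := hmB; haveI := hcB; haveI := hsB; haveI := hnB
  haveI := hT.1; haveI := hT.2.1
  haveI : Mono iB := Over.mono_of_mono_left iB
  haveI : IsAffine B.left := isAffine_of_isAffineHom iB.left
  obtain ⟨htm, π, hπm, hπ, habs⟩ := exists_retraction_of_isMaxTorus iB hsol hT t ht
  haveI := htm; haveI := hπm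
  obtain ⟨V', _, v', hvm, hvc, hVs, hVn, hVnorm, hVu, -, hv⟩ := exists_unipotentPart hT.2.2.1 t π hπ habs
  obtain ⟨_, _, -, _, _, _, hmax⟩ := (Groth.URad.isUnipotentRadical_iff v).1 hV
  obtain ⟨i, hi⟩ := @hmax V' _ v' hvm hvc hVs hVn hVnorm hVu
  haveI : IsMonHom (f ≫ iB) := hf.symm ▸ ‹IsMonHom j›
  haveI := Groth.URad.isMonHom_of_comp_mono f iB
  obtain ⟨z, hz⟩ := (hv H f).2 (unip_hom_torus_eq_one hu hT.2.2.1 (f ≫ π))
  exact ⟨z ≫ i, by rw [← hf, ← hz, ← hi, Category.assoc, Category.assoc, Category.assoc]⟩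

/-- Every subtorus lies in a maximal torus. -/
theorem exists_maxTorus_containing {S : Over (Spec (CommRingCat.of k))} [GrpObj S] (iS : S ⟶ G) [IsMonHom iS]
    [Mono iS] (hS : Red.IsTorus S) :
    ∃ (T : Over (Spec (CommRingCat.of k))) (_ : GrpObj T) (iT : T ⟶ G) (f : S ⟶ T),
      AGF.IsMaxTorus iT ∧ f ≫ iT = iS := by
  obtain ⟨B, _, i, _, X, a, o, hB, -, -⟩ := exists_borel_proper (G := G)
  have hc : IsClosedImmersion i.left := hB.2.1
  obtain ⟨T, _, s, hsm, hsc, hT, -, habs⟩ := exists_torus_absorbing_of_borel hB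
  have : IsClosedImmersion (s ≫ i).left := by rw [Over.comp_left]; infer_instance
  obtain ⟨hmax, -⟩ := isMaxTorus_of_absorbing (s ≫ i) hT habs
  obtain ⟨g, f, hf⟩ := habs S iS hS
  exact ⟨T, inferInstance, AGF.conjBy g⁻¹ (s ≫ i), f, isMaxTorus_conjBy hmax _,
    by rw [comp_conjBy', hf, conjBy_conjBy, inv_mul_cancel, conjBy_one]⟩

/-- The unipotent radical of the centralizer of a torus lies in the unipotent radical. -/
theorem centralizer_radical_le {U : Over (Spec (CommRingCat.of k))} [GrpObj U] {u : U ⟶ G}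
    (hU : Par.IsUnipotentRadical u) {S : Over (Spec (CommRingCat.of k))} [GrpObj S] (iS : S ⟶ G) [IsMonHom iS]
    [Mono iS] (hS : Red.IsTorus S) {C : Over (Spec (CommRingCat.of k))} [GrpObj C] {c : C ⟶ G}
    (hc : Red.IsCentralizerOf iS c) {H : Over (Spec (CommRingCat.of k))} [GrpObj H] (j : H ⟶ C) [IsMonHom j]
    [IsClosedImmersion j.left] [Smooth H.hom] [ConnectedSpace H.left] (hn : AlgGrp.IsNormalHom j)
    (hu : Groth.URad.IsUnip H) :
    ∃ g : H ⟶ U, g ≫ u = j ≫ c := by
  obtain ⟨_, _⟩ := centralizer_closed iS hS hc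
  haveI := hc.1
  haveI := connectedSpace_centralizer_torus iS hS c hc
  haveI : IsAffine C.left := isAffine_of_isAffineHom c.left
  obtain ⟨T, _, iT, s, hT, hs⟩ := exists_maxTorus_containing iS hS
  have : IsClosedImmersion (j ≫ c).left := by rw [Over.comp_left]; infer_instance
  refine unip_le_radical hU hT (j ≫ c) hu fun B _ iB t hB ht => ?_
  obtain ⟨D, _, iD, d, hD, hd, -⟩ := exists_borel_centralizer hB hT t ht iS hS s hs hc
  obtain ⟨f, hf⟩ := Groth.URad.exists_le_borel j hn hu hD
  exact ⟨f ≫ d, by rw [Category.assoc, ← hd, ← Category.assoc, hf]⟩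

/-- Over an algebraically closed field the unipotent radical of a reductive group is trivial. -/
theorem exists_radical_trivial (hG : Red.IsReductiveOver k G) :
    ∃ (U : Over (Spec (CommRingCat.of k))) (_ : GrpObj U) (u : U ⟶ G),
      Par.IsUnipotentRadical u ∧ Red.IsTrivialGrp U := by
  obtain ⟨R, _, r, hm, hc, hs, hcn, hn, hu, hmax⟩ := Groth.URad.exists_largest G
  haveI := hm; haveI := hc; haveI := hs; haveI := hcn
  exact ⟨R, inferInstance, r, (Groth.URad.isUnipotentRadical_iff r).2 ⟨hm, hc, hn, hs, hcn, hu, hmax⟩,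
    hG.2.2.2 R r hc hs hcn hn hu.hasNoSubtorus⟩

theorem eq_one_of_trivial {U X : Over (Spec (CommRingCat.of k))} [GrpObj U] (h : Red.IsTrivialGrp U) (g : X ⟶ U) :
    g = 1 := by
  haveI : IsIso U.hom := h
  exact Over.OverMorphism.ext ((cancel_mono U.hom).1 (by rw [Over.w, Over.w]))

/-- **A maximal torus of a reductive group is its own centralizer.** -/
theorem maxTorus_self_centralizing (hG : Red.IsReductiveOver k G)
    {T : Over (Spec (CommRingCat.of k))} [GrpObj T] {iT : T ⟶ G} (hT : AGF.IsMaxTorus iT)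
    {C : Over (Spec (CommRingCat.of k))} [GrpObj C] {c : C ⟶ G} (hc : Red.IsCentralizerOf iT c) :
    ∃ f : C ⟶ T, f ≫ iT = c := by
  haveI := hT.1; haveI := hT.2.1
  obtain ⟨hs, hcl, hcn, hnil⟩ := isNilpotentGrp_centralizer_maxTorus hT hc
  haveI := hs; haveI := hcl; haveI := hcn; haveI := hc.1
  haveI : IsAffine C.left := isAffine_of_isAffineHom c.left
  obtain ⟨t, ht, htm⟩ := exists_le_centralizer hT.2.2.1 hc
  obtain ⟨-, π, hπm, hπ, habs⟩ := exists_retraction_of_isMaxTorus c (isSolvableGrp_of_nilpotent hnil) hT t ht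
  haveI := hπm
  obtain ⟨V, _, v, hvm, hvc, hVs, hVn, hVnorm, hVu, -, hv⟩ := exists_unipotentPart hT.2.2.1 t π hπ habs
  haveI := hvm; haveI := hvc; haveI := hVs; haveI := hVn
  obtain ⟨U, _, u, hU, hUt⟩ := exists_radical_trivial hG
  have : IsClosedImmersion (v ≫ c).left := by rw [Over.comp_left]; infer_instance
  obtain ⟨g, hg⟩ := unip_le_radical hU hT (v ≫ c) hVu fun B _ iB tB hB htB => by
    obtain ⟨f, hf⟩ := centralizer_le_borelOver hT hc hB tB htB
    exact ⟨v ≫ f, by rw [Category.assoc, hf]⟩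
  haveI : Mono c := hc.2.1
  haveI := hU.1
  have hv1 : ∀ {X : Over (Spec (CommRingCat.of k))} (z : X ⟶ V), z ≫ v = 1 := fun {X} z => by
    rw [← cancel_mono c, MonObj.one_comp, Category.assoc, ← hg, eq_one_of_trivial hUt g, MonObj.one_comp,
      MonObj.comp_one]
  refine ⟨π, ?_⟩
  obtain ⟨z, hz⟩ := (hv C (𝟙 C * (π ≫ t)⁻¹)).2 (by
    rw [MonObj.mul_comp, GrpObj.inv_comp, Category.assoc, hπ, Category.comp_id, Category.id_comp, mul_inv_cancel])
  have h1 : π ≫ t = 𝟙 C := (mul_inv_eq_one.1 (hz.symm.trans (hv1 z))).symm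
  rw [← ht, ← Category.assoc, h1, Category.id_comp]

/-- The unipotent radical of the centralizer of a torus in a reductive group is trivial. -/
theorem isReductiveOver_centralizer (hG : Red.IsReductiveOver k G)
    {S : Over (Spec (CommRingCat.of k))} [GrpObj S] (iS : S ⟶ G) [IsMonHom iS] [Mono iS] (hS : Red.IsTorus S)
    {C : Over (Spec (CommRingCat.of k))} [GrpObj C] {c : C ⟶ G} (hc : Red.IsCentralizerOf iS c) :
    Red.IsReductiveOver k C := by
  obtain ⟨hcl, hsm⟩ := centralizer_closed iS hS hc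
  haveI := hcl; haveI := hsm; haveI := hc.1
  haveI : IsAffine C.left := isAffine_of_isAffineHom c.left
  refine ⟨inferInstance, hsm, connectedSpace_centralizer_torus iS hS c hc, fun W _ i _ hi hs hcn hn hW => ?_⟩
  haveI := hi; haveI := hs; haveI := hcn
  haveI : IsAffine W.left := isAffine_of_isAffineHom i.left
  obtain ⟨U, _, u, hU, hUt⟩ := exists_radical_trivial hG
  obtain ⟨g, hg⟩ := centralizer_radical_le hU iS hS hc i hn (Groth.URad.isUnip_of_hasNoSubtorus W hW)
  haveI : Mono c := hc.2.1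
  haveI : Mono i := Over.mono_of_mono_left i
  have : Mono g := ⟨fun a b h => (cancel_mono (i ≫ c)).1 (by rw [← hg, ← Category.assoc, h, Category.assoc])⟩
  exact Groth.URad.isTrivialGrp_of_mono g hUt

end Groth.Agf2.RedCent

namespace Groth.Agf2.RedCent

variable {k : Type u} [Field k] {G : Over (Spec (CommRingCat.of k))} [GrpObj G]

/-- A reductive group over a field is affine, smooth and connected. -/
theorem reductive_props (hG : Red.IsReductive G) : IsAffine G.left ∧ Smooth G.hom ∧ ConnectedSpace G.left := by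
  obtain ⟨h1, h2, h3⟩ := hG
  haveI := (h3 (spt k)).2.2.1
  exact ⟨isAffine_of_isAffineHom G.hom, h2, connectedSpace_of_bc (Red.geomPt (spt k))⟩

/-- **A torus of a reductive group is maximal iff it is its own centralizer.** -/
theorem maximal_iff_self_centralizing (hG : Red.IsReductive G) {T : Over (Spec (CommRingCat.of k))} [GrpObj T]
    (iT : T ⟶ G) [IsMonHom iT] [Mono iT] (hT : Red.IsTorus T) :
    Red.IsMaximalTorus iT ↔ Red.IsCentralizerOf iT iT := by
  obtain ⟨_, _, _⟩ := reductive_props hG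
  haveI := isClosedImmersion_torus iT hT
  constructor
  · intro hM
    obtain ⟨⟨C, _, c, hc, hcc, hcs⟩, -⟩ := Groth.Agent.S3006.result _ G T iT inferInstance hT
    let ψ := Red.geomPt (spt k)
    have := smooth_bc ψ G
    have := isAffine_bc ψ G
    have := connectedSpace_bc ψ G
    obtain ⟨f, hf⟩ := maxTorus_self_centralizing (hG.2.2 (spt k)) (isMaxTorus_geom hM (spt k))
      (isCentralizerOf_bc ψ hc)
    obtain ⟨g, hg⟩ := exists_factor_descend ψ c iT f hf
    refine ⟨inferInstance, inferInstance, fun X x => ⟨fun ⟨z, hz⟩ X' a b => ?_, fun hx => ?_⟩⟩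
    · rw [← hz, ← Category.assoc]
      exact torus_comm hT (a ≫ z) b
    · obtain ⟨z, rfl⟩ := (hc.2.2 X x).2 hx
      exact ⟨z ≫ g, by rw [Category.assoc, hg]⟩
  · intro hc
    refine ⟨inferInstance, inferInstance, hT, fun s T' _ j _ _ f hT' hf => ?_⟩
    obtain ⟨b, hb⟩ := ((isCentralizerOf_bc (Red.geomPt s) hc).2.2 T' j).2 fun X' x y => by
      rw [← hf, ← Category.assoc y]
      exact torus_comm hT' x (y ≫ f)
    haveI : Mono ((Over.pullback (Red.geomPt s)).map iT) := inferInstance
    haveI : Mono f := ⟨fun p q h => (cancel_mono ((Over.pullback (Red.geomPt s)).map iT)).1 (by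
      rw [← hf, ← Category.assoc, h, Category.assoc])⟩
    exact ⟨b, (cancel_mono ((Over.pullback (Red.geomPt s)).map iT)).1
        (by rw [Category.assoc, hb, hf, Category.id_comp]),
      (cancel_mono j).1 (by rw [Category.assoc, hf, hb, Category.id_comp])⟩

/-- The centralizer of a torus in a reductive group is reductive. -/
theorem isReductive_centralizer (hG : Red.IsReductive G) {T : Over (Spec (CommRingCat.of k))} [GrpObj T]
    (iT : T ⟶ G) [IsMonHom iT] [Mono iT] (hT : Red.IsTorus T) {C : Over (Spec (CommRingCat.of k))} [GrpObj C]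
    {c : C ⟶ G} (hc : Red.IsCentralizerOf iT c) : Red.IsReductive C := by
  obtain ⟨_, _, _⟩ := reductive_props hG
  obtain ⟨_, hs⟩ := centralizer_closed iT hT hc
  haveI : IsAffine C.left := isAffine_of_isAffineHom c.left
  refine ⟨inferInstance, hs, fun s => ?_⟩
  let ψ := Red.geomPt s
  have := smooth_bc ψ G
  have := isAffine_bc ψ G
  have := connectedSpace_bc ψ G
  haveI := Groth.Abvar.isMonHom_map (f := ψ) iT
  exact isReductiveOver_centralizer (hG.2.2 s) ((Over.pullback ψ).map iT) (isTorus_bc _ hT) (isCentralizerOf_bc ψ hc)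

/-- The centre of a reductive group lies in every maximal torus. -/
theorem centre_le_maxTorus (hG : Red.IsReductive G) {Z : Over (Spec (CommRingCat.of k))} [GrpObj Z] {z : Z ⟶ G}
    (hz : Red.IsCentre z) {T : Over (Spec (CommRingCat.of k))} [GrpObj T] {iT : T ⟶ G}
    (hT : Red.IsMaximalTorus iT) : ∃ f : Z ⟶ T, f ≫ iT = z := by
  haveI := hT.1; haveI := hT.2.1
  refine (((maximal_iff_self_centralizing hG iT hT.2.2.1).1 hT).2.2 Z z).2 fun X' x y => ?_
  have h1 := (hz.2.2 Z z).1 ⟨𝟙 Z, Category.id_comp z⟩ X' x (y ≫ iT)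
  rwa [Category.comp_id] at h1

end Groth.Agf2.RedCent
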