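import Groth.Agent.RedX.Weights
import Groth.Agent.Reductive2.TorusWeights

/-!
The grading of the functions of an affine group by the characters of a split torus, and the tangent
vectors of a given weight.
-/

set_option autoImplicit false
universe u

open CategoryTheory MonoidalCategory CartesianMonoidalCategory MonObj GrpObj AlgebraicGeometry
open scoped DualNumber

noncomputable section

namespace Groth.Agf2.TorusGrading

open Groth.Agf Groth.RedX
open scoped Classical

variable {k : Type u} [Field k] {M : Type} [AddCommGroup M]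

local notation "Mm" => Multiplicative M

/-- The universal character. -/
def theT (B : Type u) [CommRing B] : Mm →* (MonoidAlgebra B Mm)ˣ := (MonoidAlgebra.of B Mm).toHomUnits

theorem theT_val (B : Type u) [CommRing B] (m : Mm) :
    (theT (M := M) B m : MonoidAlgebra B Mm) = MonoidAlgebra.single m 1 := rfl

section evM

variable {A B : Type u} [CommRing A] [Algebra k A] [CommRing B] [Algebra k B]

/-- Evaluation at a character with values in units. -/
def evM (φ : A →ₐ[k] B) (χ : Mm →* Bˣ) : MonoidAlgebra A Mm →ₐ[k] B :=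
  MonoidAlgebra.liftNCAlgHom φ ((Units.coeHom B).comp χ) fun _ _ => Commute.all _ _

theorem evM_single (φ : A →ₐ[k] B) (χ : Mm →* Bˣ) (m : Mm) (a : A) :
    evM φ χ (MonoidAlgebra.single m a) = φ a * (χ m : B) := by
  simp [evM, MonoidAlgebra.liftNC_single]

/-- Constants. -/
abbrev incl (k : Type u) [Field k] (M : Type) [AddCommGroup M] (B : Type u) [CommRing B] [Algebra k B] :
    B →ₐ[k] MonoidAlgebra B (Multiplicative M) :=
  MonoidAlgebra.singleOneAlgHom

theorem map_theT (φ : A →ₐ[k] B) (χ : Mm →* Bˣ) :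
    (Units.map (evM φ χ : MonoidAlgebra A Mm →* B)).comp (theT A) = χ :=
  MonoidHom.ext fun m => Units.ext (by simp [theT_val, evM_single])

theorem evM_incl (φ : A →ₐ[k] B) (χ : Mm →* Bˣ) : (evM φ χ).comp (incl k M A) = φ :=
  AlgHom.ext fun a => by simp [evM_single]

end evM

variable {G : Over (S₀ k)} [GrpObj G] [IsAffine G.left] (j : Red.DS (S₀ k) M ⟶ G) [IsMonHom j]

/-- Conjugate of a point by a point of the torus. -/
def conjP {B : Type u} [CommRing B] [Algebra k B] (x : VecGrp.pt k B ⟶ G) (χ : Mm →* Bˣ) :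
    VecGrp.pt k B ⟶ G :=
  (tpt χ ≫ j) * x * (tpt χ ≫ j)⁻¹

omit [IsAffine G.left] [IsMonHom j] in
theorem ptMap_conjP {B B' : Type u} [CommRing B] [Algebra k B] [CommRing B'] [Algebra k B'] (φ : B →ₐ[k] B')
    (x : VecGrp.pt k B ⟶ G) (χ : Mm →* Bˣ) :
    VecGrp.ptMap φ ≫ conjP j x χ = conjP j (VecGrp.ptMap φ ≫ x) ((Units.map (φ : B →* B')).comp χ) := by
  simp only [conjP, MonObj.comp_mul, GrpObj.comp_inv, ← Category.assoc, ptMap_tpt]

theorem conjP_mul {B : Type u} [CommRing B] [Algebra k B] (x : VecGrp.pt k B ⟶ G) (χ χ' : Mm →* Bˣ) :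
    conjP j (conjP j x χ) χ' = conjP j x (χ' * χ) := by
  simp only [conjP, tpt_mul, MonObj.mul_comp, _root_.mul_inv_rev, _root_.mul_assoc]

theorem conjP_one {B : Type u} [CommRing B] [Algebra k B] (x : VecGrp.pt k B ⟶ G) : conjP j x 1 = x := by
  simp [conjP, tpt_one, MonObj.one_comp]

omit [IsAffine G.left] [IsMonHom j] in
theorem conjP_one_left {B : Type u} [CommRing B] [Algebra k B] (χ : Mm →* Bˣ) :
    conjP j (1 : VecGrp.pt k B ⟶ G) χ = 1 := by
  simp [conjP]

/-- The coaction. -/
def coact : Fn G →ₐ[k] MonoidAlgebra (Fn G) Mm :=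
  evalPt (conjP j (VecGrp.ptMap (incl k M (Fn G)) ≫ univ G) (theT (Fn G)))

/-- The component of weight `m`. -/
def Q (m : Mm) (f : Fn G) : Fn G := (coact j f).coeff m

omit [IsMonHom j] in
theorem evM_coact {B : Type u} [CommRing B] [Algebra k B] (x : VecGrp.pt k B ⟶ G) (χ : Mm →* Bˣ) (f : Fn G) :
    evM (evalPt x) χ (coact j f) = evalPt (conjP j x χ) f := by
  rw [coact, ← AlgHom.comp_apply, ← evalPt_ptMap, ptMap_conjP, map_theT]
  congr 3
  apply pt_ext
  rw [evalPt_ptMap, evalPt_ptMap, evalPt_univ, AlgHom.comp_id, evM_incl]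

theorem comp_one_mul {B B' : Type u} [CommRing B] [CommRing B'] (φ : B →* B') (χ : Mm →* B'ˣ) :
    (Units.map φ).comp (1 : Mm →* Bˣ) * χ = χ :=
  MonoidHom.ext fun m => by simp

theorem coeff_twist {A B : Type u} [CommRing A] [Algebra k A] [CommRing B] [Algebra k B] (φ : A →ₐ[k] B)
    (χ : Mm →* Bˣ) (p : MonoidAlgebra A Mm) (m : Mm) :
    (evM ((incl k M B).comp φ) ((Units.map (incl k M B : B →* MonoidAlgebra B Mm)).comp χ * theT B) p).coeff m =
      φ (p.coeff m) * (χ m : B) := by
  classical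
  induction p using MonoidAlgebra.induction_linear with
  | zero => simp
  | add p q hp hq => simp [hp, hq, add_mul]
  | single l a =>
    rw [evM_single]
    simp only [MonoidHom.mul_apply, MonoidHom.comp_apply, Units.val_mul, theT_val, AlgHom.comp_apply,
      Units.coe_map, MonoidHom.coe_coe, MonoidAlgebra.singleOneAlgHom_apply, MonoidAlgebra.single_mul_single,
      _root_.one_mul, _root_.mul_one, MonoidAlgebra.coeff_single]
    rcases eq_or_ne l m with rfl | hlm
    · simp
    · simp [Finsupp.single_apply, hlm]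

/-- The conjugate by the universal point, coefficientwise. -/
theorem coeff_conjP {B : Type u} [CommRing B] [Algebra k B] (x : VecGrp.pt k B ⟶ G) (χ : Mm →* Bˣ) (f : Fn G)
    (m : Mm) :
    (evalPt (conjP j (VecGrp.ptMap (incl k M B) ≫ x)
      ((Units.map (incl k M B : B →* MonoidAlgebra B Mm)).comp χ * theT B)) f).coeff m =
      evalPt x (Q j m f) * (χ m : B) := by
  rw [← evM_coact, evalPt_ptMap, coeff_twist]
  rfl

/-- The component of weight `m` has weight `m`. -/
theorem evalPt_conjP_Q {B : Type u} [CommRing B] [Algebra k B] (x : VecGrp.pt k B ⟶ G) (χ : Mm →* Bˣ) (m : Mm)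
    (f : Fn G) : evalPt (conjP j x χ) (Q j m f) = evalPt x (Q j m f) * (χ m : B) := by
  have h1 := coeff_conjP j (conjP j x χ) 1 f m
  rw [comp_one_mul, ptMap_conjP, conjP_mul, mul_comm (theT (M := M) B), coeff_conjP] at h1
  simpa using h1.symm

theorem coact_Q (m : Mm) (f : Fn G) : coact j (Q j m f) = MonoidAlgebra.single m (Q j m f) := by
  rw [coact, evalPt_conjP_Q, evalPt_ptMap, AlgHom.comp_apply, evalPt_univ_apply]
  simp [theT_val, MonoidAlgebra.single_mul_single]

theorem Q_Q (m l : Mm) (f : Fn G) : Q j l (Q j m f) = if m = l then Q j m f else 0 := by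
  classical
  rw [Q, coact_Q, MonoidAlgebra.coeff_single, Finsupp.single_apply]

theorem evalPt_one_Q (m : Mm) (f : Fn G) :
    evalPt (1 : VecGrp.pt k k ⟶ G) (Q j m f) = if m = 1 then evalPt (1 : VecGrp.pt k k ⟶ G) f else 0 := by
  classical
  have h := coeff_conjP j (1 : VecGrp.pt k k ⟶ G) 1 f m
  rw [MonObj.comp_one, conjP_one_left, Reductive2.TorusWeights.evalPt_one] at h
  simp only [MonoidHom.one_apply, Units.val_one, _root_.mul_one] at h
  rw [← h]
  simp [Finsupp.single_apply, eq_comm]

/-! ### A tangent vector of given weight -/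

variable (G) in
/-- A linear form coming from the cotangent space. -/
def vecOf (φ : (augI G).Cotangent →ₗ[k] k) : Fn G →ₗ[k] k := φ.comp (toCot G)

omit [GrpObj G] in
theorem augProj_coe [GrpObj G] (f : Fn G) :
    ((augProj G f : augI G) : Fn G) = f - algebraMap k (Fn G) (evalPt (1 : VecGrp.pt k k ⟶ G) f) := rfl

theorem toCot_mul (a b : Fn G) : toCot G (a * b) =
    (evalPt (1 : VecGrp.pt k k ⟶ G) a) • toCot G b + (evalPt (1 : VecGrp.pt k k ⟶ G) b) • toCot G a := by
  have hab : ((augProj G a : augI G) : Fn G) * (augProj G b : augI G) ∈ (augI G) ^ 2 := by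
    rw [sq]; exact Ideal.mul_mem_mul (augProj G a).2 (augProj G b).2
  simp only [toCot_apply]
  have e : augProj G (a * b) = (evalPt (1 : VecGrp.pt k k ⟶ G) a) • augProj G b +
      (evalPt (1 : VecGrp.pt k k ⟶ G) b) • augProj G a + ⟨_, Ideal.pow_le_self two_ne_zero hab⟩ := by
    refine Subtype.ext ?_
    simp only [Submodule.coe_add, Submodule.coe_smul_of_tower, augProj_coe, map_mul, Algebra.smul_def]
    ring
  rw [e, map_add, map_add, LinearMap.map_smul_of_tower, LinearMap.map_smul_of_tower,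
    ((augI G).toCotangent_eq_zero ⟨_, _⟩).2 hab, add_zero]

theorem toCot_one : toCot G 1 = 0 := by
  rw [toCot_apply, show augProj G 1 = 0 from Subtype.ext (by simp [augProj_coe]), map_zero]

/-- **Tangent vector of weight `m`.** -/
theorem exists_tangent {m : Mm} (hm : m ≠ 1) {f : Fn G} (hf : Q j m f ∉ (augI G) ^ 2) :
    ∃ x : VecGrp.pt k k[ε] ⟶ G,
      (∀ (R : Type u) [CommRing R] [Algebra k R] (φ : k[ε] →ₐ[k] R) (χ : Mm →* Rˣ), χ m = 1 →
        conjP j (VecGrp.ptMap φ ≫ x) χ = VecGrp.ptMap φ ≫ x) ∧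
      conjP j (VecGrp.ptMap (incl k M k[ε]) ≫ x) (theT k[ε]) ≠ VecGrp.ptMap (incl k M k[ε]) ≫ x := by
  classical
  let g := Q j m f
  have hg : g ∈ augI G := by rw [RingHom.mem_ker, evalPt_one_Q, if_neg hm]
  have hg0 : toCot G g ≠ 0 := by
    rw [toCot_apply, show augProj G g = ⟨g, hg⟩ from Subtype.ext (by
      rw [augProj_coe, RingHom.mem_ker.1 hg, map_zero, sub_zero])]
    intro h
    exact hf (((augI G).toCotangent_eq_zero ⟨g, hg⟩).1 h)
  obtain ⟨φ₀, hφ₀⟩ : ∃ φ : (augI G).Cotangent →ₗ[k] k, φ (toCot G g) ≠ 0 := by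
    by_contra hc
    push Not at hc
    exact hg0 ((Module.forall_dual_apply_eq_zero_iff k _).1 hc)
  let v : Fn G →ₗ[k] k := vecOf G φ₀
  have hv1 : v 1 = 0 := by simp [v, vecOf, toCot_one]
  have hvm : ∀ a b, v (a * b) = evalPt (1 : VecGrp.pt k k ⟶ G) a * v b + evalPt (1 : VecGrp.pt k k ⟶ G) b * v a :=
    fun a b => by simp [v, vecOf, toCot_mul]
  let x₀ : VecGrp.pt k k[ε] ⟶ G := ptOf G
    { toFun := fun a => TrivSqZeroExt.inl (evalPt (1 : VecGrp.pt k k ⟶ G) a) + TrivSqZeroExt.inr (v a)
      map_one' := by simp [hv1]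
      map_mul' := fun a b => by
        refine TrivSqZeroExt.ext (by simp) ?_
        simp [hvm, mul_comm]
      map_zero' := by simp
      map_add' := fun a b => by refine TrivSqZeroExt.ext ?_ ?_ <;> simp
      commutes' := fun c => by
        refine TrivSqZeroExt.ext ?_ ?_
        · simp [TrivSqZeroExt.algebraMap_eq_inl]
        · simp [TrivSqZeroExt.algebraMap_eq_inl, Algebra.algebraMap_eq_smul_one, hv1] }
  have hx₀ : ∀ a, evalPt x₀ a = TrivSqZeroExt.inl (evalPt (1 : VecGrp.pt k k ⟶ G) a) + TrivSqZeroExt.inr (v a) :=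
    fun a => by rw [evalPt_ptOf]; rfl
  -- the coefficient of weight m of the conjugates
  let h := fun a => evM (((incl k M k[ε])).comp (evalPt x₀)) (theT k[ε]) (coact j a)
  have hcoef : ∀ a l, (h a).coeff l = evalPt x₀ (Q j l a) := fun a l => by
    have := coeff_twist (evalPt x₀) (1 : Mm →* k[ε]ˣ) (coact j a) l
    rw [comp_one_mul] at this
    simpa [h, Q] using this
  let D : Fn G → k := fun a => v (Q j m a)
  have hD : ∀ a b, D (a * b) = evalPt (1 : VecGrp.pt k k ⟶ G) a * D b + evalPt (1 : VecGrp.pt k k ⟶ G) b * D a := by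
    intro a b
    let π : k[ε] →ₐ[k] k := TrivSqZeroExt.fstHom k k k
    let c : Fn G → MonoidAlgebra k[ε] Mm := fun a =>
      MonoidAlgebra.single 1 (TrivSqZeroExt.inl (evalPt (1 : VecGrp.pt k k ⟶ G) a))
    let p : Fn G → MonoidAlgebra k[ε] Mm := fun a =>
      MonoidAlgebra.mapAlgHom Mm (TrivSqZeroExt.inlAlgHom k k k)
        (MonoidAlgebra.ofCoeff ((coact j a).coeff.mapRange v v.map_zero))
    let e : MonoidAlgebra k[ε] Mm := MonoidAlgebra.single 1 DualNumber.eps
    have hdec : ∀ a, h a = c a + e * p a := fun a => by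
      refine MonoidAlgebra.ext (Finsupp.ext fun l => ?_)
      rw [hcoef, hx₀, evalPt_one_Q, MonoidAlgebra.coeff_add, Finsupp.add_apply]
      rw [show (e * p a).coeff l = DualNumber.eps * (p a).coeff l by simp [e, MonoidAlgebra.single_one_mul_apply]]
      rw [MonoidAlgebra.coeff_mapAlgHom]
      congr 1
      · rcases eq_or_ne l 1 with rfl | hl
        · simp [c]
        · simp [c, hl, Finsupp.single_apply, hl.symm]
      · refine TrivSqZeroExt.ext ?_ ?_ <;> simp [Q]
    have he : e * e = 0 := by simp [e, MonoidAlgebra.single_mul_single]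
    have h1 : h (a * b) = c a * c b + e * (c a * p b + c b * p a) := by
      have hm' : h (a * b) = h a * h b := by simp only [h, map_mul]
      have : e * p a * (e * p b) = 0 := by linear_combination (p a * p b) * he
      rw [hm', hdec, hdec]
      linear_combination this
    have h2 := congrArg (fun q => (q.coeff m).snd) h1
    simpa [hcoef, hx₀, D, c, e, p, hm, Finsupp.single_apply, Ne.symm hm, MonoidAlgebra.single_mul_single,
      MonoidAlgebra.single_one_mul_apply, Q] using h2
  have hD1 : D 1 = 0 := by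
    have := hD 1 1
    simp only [map_one, _root_.one_mul] at this
    exact left_eq_add.1 this
  let x : VecGrp.pt k k[ε] ⟶ G := ptOf G
    { toFun := fun a => TrivSqZeroExt.inl (evalPt (1 : VecGrp.pt k k ⟶ G) a) + TrivSqZeroExt.inr (D a)
      map_one' := by simp [hD1]
      map_mul' := fun a b => by
        refine TrivSqZeroExt.ext (by simp) ?_
        simp [hD, mul_comm]
      map_zero' := by simp [D, Q]
      map_add' := fun a b => by refine TrivSqZeroExt.ext ?_ ?_ <;> simp [D, Q]
      commutes' := fun c => by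
        have hDc : D (algebraMap k (Fn G) c) = c * D 1 := by
          simp [D, Q, Algebra.algebraMap_eq_smul_one, map_smul]
        refine TrivSqZeroExt.ext ?_ ?_
        · simp [TrivSqZeroExt.algebraMap_eq_inl]
        · simp [TrivSqZeroExt.algebraMap_eq_inl, hDc, hD1] }
  have hx : ∀ a, evalPt x a = TrivSqZeroExt.inl (evalPt (1 : VecGrp.pt k k ⟶ G) a) + TrivSqZeroExt.inr (D a) :=
    fun a => by rw [evalPt_ptOf]; rfl
  -- conjugates of x
  have key : ∀ a, evalPt (conjP j (VecGrp.ptMap (incl k M k[ε]) ≫ x) (theT k[ε])) a =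
      MonoidAlgebra.single 1 (TrivSqZeroExt.inl (evalPt (1 : VecGrp.pt k k ⟶ G) a)) +
        MonoidAlgebra.single m (TrivSqZeroExt.inr (D a)) := by
    intro a
    refine MonoidAlgebra.ext (Finsupp.ext fun l => ?_)
    have := coeff_conjP j x 1 a l
    rw [comp_one_mul] at this
    rw [this]
    simp only [MonoidHom.one_apply, Units.val_one, _root_.mul_one, hx, evalPt_one_Q, MonoidAlgebra.coeff_add,
      MonoidAlgebra.coeff_single, Finsupp.add_apply, Finsupp.single_apply, D, Q_Q]
    congr 1
    · rcases eq_or_ne l 1 with rfl | hl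
      · simp
      · simp [hl, hl.symm]
    · rcases eq_or_ne l m with rfl | hl
      · simp
      · simp [hl, hl.symm]
  refine ⟨x, fun R _ _ φ χ hχ => pt_ext (AlgHom.ext fun a => ?_), fun heq => ?_⟩
  · have h1 : VecGrp.ptMap (evM φ χ) ≫ conjP j (VecGrp.ptMap (incl k M k[ε]) ≫ x) (theT k[ε]) =
        conjP j (VecGrp.ptMap φ ≫ x) χ := by
      rw [ptMap_conjP, map_theT]
      congr 1
      apply pt_ext
      rw [evalPt_ptMap, evalPt_ptMap, evalPt_ptMap, ← AlgHom.comp_assoc, evM_incl]
    rw [← h1, evalPt_ptMap, AlgHom.comp_apply, key, evalPt_ptMap, AlgHom.comp_apply, hx]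
    simp only [map_add, evM_single, map_one, hχ, Units.val_one, _root_.mul_one, map_smul]
  · have h1 := congrArg (fun p => ((evalPt p g).coeff m).snd) heq
    simp only [key, evalPt_ptMap, AlgHom.comp_apply, hx, MonoidAlgebra.coeff_add, MonoidAlgebra.coeff_single,
      Finsupp.add_apply] at h1
    simp [Finsupp.single_apply, hm, Ne.symm hm, D, g, Q_Q] at h1
    exact hφ₀ h1

end Groth.Agf2.TorusGrading
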