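import Groth.Agent.Agf2.TorusGrading
import Groth.Agent.Agf2.RedCent
import Groth.Agent.Agf2.BorelWeyl
import Groth.Agent.Agf2.Chev.Main
import Groth.Agent.AlgGrp1.BorelRigid
import Groth.Agent.RedX.SmoothTorus
import Groth.Agent.RedX.Conj
import Groth.Agent.S3912
import Groth.Agent.S3279

/-!
Semisimple groups over an algebraically closed field of characteristic zero: cocharacters killed by all weights
are central, and a torus which is not central has a Weyl element.
-/

set_option autoImplicit false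
set_option linter.style.haveILetI false
universe u

open CategoryTheory MonoidalCategory CartesianMonoidalCategory MonObj GrpObj AlgebraicGeometry
open scoped DualNumber

noncomputable section

namespace Groth.Agf2.WeylBasic

open Groth.Agf Groth.RedX Groth.AlgGrp1
open Groth.Agf2.TorusGrading (conjP Q coact evM theT incl)

variable {k : Type u} [Field k]

/-- Morphisms agree when they agree on points with values in algebras. -/
theorem hom_ext_pt {W Y : Over (S₀ k)} (a b : W ⟶ Y)
    (h : ∀ (B : Type u) [CommRing B] [Algebra k B] (y : VecGrp.pt k B ⟶ W), y ≫ a = y ≫ b) : a = b :=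
  Groth.GrassRep.hom_ext a b fun A g => h A g

/-- Morphisms of test schemes come from algebra maps. -/
theorem exists_ptMap {A B : Type u} [CommRing A] [Algebra k A] [CommRing B] [Algebra k B]
    (y : VecGrp.pt k B ⟶ VecGrp.pt k A) : ∃ φ : A →ₐ[k] B, VecGrp.ptMap φ = y := by
  refine ⟨(evalPt y).comp (ptEquiv k A).symm.toAlgHom, pt_ext (AlgHom.ext fun a => ?_)⟩
  rw [← Category.comp_id (VecGrp.ptMap _), evalPt_ptMap, AlgHom.comp_apply, AlgHom.comp_apply]
  congr 1
  rw [evalPt_apply]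
  show (ptEquiv k A).symm (ptFn A (pull (𝟙 _) a)) = a
  rw [← evalPt_apply]
  exact (congrArg (ptEquiv k A).symm (show evalPt (𝟙 (VecGrp.pt k A)) a = ptEquiv k A a from rfl)).trans
    ((ptEquiv k A).symm_apply_apply a)

section Cochar

variable {M : Type} [AddCommGroup M] {G : Over (S₀ k)} [GrpObj G] [IsAffine G.left]
  (j : Red.DS (S₀ k) M ⟶ G) [IsMonHom j]

theorem gmPt_eq_tpt {B : Type u} [CommRing B] [Algebra k B] (u : Bˣ) :
    gmPt (k := k) u = tpt (zpowersHom Bˣ u) := by
  refine Reductive.gmFn_injective ?_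
  rw [gmPt, Reductive.gmFn_gmMk, Reductive.gmFn_eq]
  refine Eq.trans ?_ (ptVal_tpt (k := k) (zpowersHom Bˣ u) (Multiplicative.ofAdd 1)).symm
  simp [ptEquiv]

/-- **Cocharacters killed by the weights are central** (characteristic zero). -/
theorem conj_cochar [CharZero k] [IsNoetherianRing (Fn G)] [IsDomain (Fn G)] (ψ : M →+ ℤ)
    (hψ : ∀ (m : Multiplicative M) (f : Fn G), ψ m.toAdd ≠ 0 → Q j m f ∈ (augI G) ^ 2)
    {B : Type u} [CommRing B] [Algebra k B] (x : VecGrp.pt k B ⟶ G) (χ : Multiplicative ℤ →* Bˣ) :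
    conjP j x (χ.comp (AddMonoidHom.toMultiplicative ψ)) = x := by
  classical
  haveI := Groth.RedX.isMonHom_DSmap' (S := S₀ k) ψ
  let i : Red.Gm (S₀ k) ⟶ G := Red.DSmap (S₀ k) ψ ≫ j
  haveI : IsMonHom i := inferInstance
  have hconj : ∀ (C : Type u) [CommRing C] [Algebra k C] (y : VecGrp.pt k C ⟶ G) (v : Cˣ),
      Reductive2.TorusWeights.conjPt i y v =
        conjP j y ((zpowersHom Cˣ v).comp (AddMonoidHom.toMultiplicative ψ)) := by
    intro C _ _ y v
    simp only [Reductive2.TorusWeights.conjPt, Reductive2.TorusWeights.gmHom_apply, gmPt_eq_tpt, conjP, i,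
      ← Category.assoc, tpt_DSmap]
  have hP : ∀ n : ℤ, (n : k) ≠ 0 → ∀ f ∈ Reductive2.TorusWeights.aug G,
      Reductive2.TorusWeights.P i n f ∈ Reductive2.TorusWeights.aug G ^ 2 := by
    intro n hn f _
    rw [Reductive2.TorusWeights.P, Reductive2.TorusWeights.expandC, hconj, ← TorusGrading.evM_coact]
    rw [← MonoidAlgebra.sum_coeff_single (coact j f), Finsupp.sum, map_sum, AddMonoidAlgebra.coeff_sum,
      Finsupp.finset_sum_apply]
    refine Ideal.sum_mem _ fun m _ => ?_
    rw [TorusGrading.evM_single]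
    simp only [evalPt_ptMap, evalPt_univ, AlgHom.comp_id, MonoidHom.comp_apply, zpowersHom_apply,
      Reductive2.TorusWeights.varT_zpow, AddMonoidAlgebra.singleZeroAlgHom_apply,
      AddMonoidAlgebra.single_mul_single, zero_add, _root_.mul_one, AddMonoidAlgebra.coeff_single,
      Finsupp.single_apply]
    split_ifs with he
    · exact hψ m f fun h0 => hn (by rw [← he]; simp [h0])
    · exact zero_mem _
  have hP0 : ∀ n : ℤ, (n : k) ≠ 0 → ∀ f, Reductive2.TorusWeights.P i n f = 0 := fun n hn f =>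
    Reductive2.TorusWeights.P_eq_zero i hP hn f
  haveI : CharP k 0 := CharP.ofCharZero k
  have h := Reductive2.TorusWeights.conjPt_eq i hP0 x (χ (Multiplicative.ofAdd 1)) (p := 0) (pow_zero _)
  rw [hconj] at h
  refine Eq.trans ?_ h
  congr 1
  refine MonoidHom.ext fun m => ?_
  show χ (Multiplicative.ofAdd (ψ m.toAdd)) = χ (Multiplicative.ofAdd 1) ^ ψ m.toAdd
  rw [← map_zpow, ← ofAdd_zsmul, smul_eq_mul, _root_.mul_one]

end Cochar

section Weyl

variable [IsAlgClosed k] {G : Over (Spec (CommRingCat.of k))} [GrpObj G]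

/-- A point conjugating a maximal torus to itself identically lies in it. -/
theorem mem_of_conjBy_eq (hG : Red.IsReductiveOver k G) {T : Over (Spec (CommRingCat.of k))} [GrpObj T]
    {iT : T ⟶ G} (hT : AGF.IsMaxTorus iT) (n : 𝟙_ (Over (Spec (CommRingCat.of k))) ⟶ G)
    (hn : AGF.conjBy n iT = iT) : ∃ s : 𝟙_ (Over (Spec (CommRingCat.of k))) ⟶ T, s ≫ iT = n := by
  haveI := hG.1; haveI := hG.2.1; haveI := hG.2.2.1
  haveI := hT.1; haveI := hT.2.1
  obtain ⟨⟨C, _, c, hc, -, -⟩, -⟩ := Groth.Agent.S3006.result _ G T iT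
    (isClosedImmersion_of_isTorus iT hT.2.2.1) hT.2.2.1
  obtain ⟨f, hf⟩ := RedCent.maxTorus_self_centralizing hG hT hc
  obtain ⟨z, hz⟩ := (hc.2.2 _ n).2 fun X' x h => by
    rw [toUnit_unique x (toUnit X')]
    have h1 := congrArg (h ≫ ·) hn
    simp only [comp_conjBy] at h1
    conv_rhs => rw [← h1]
    group
  exact ⟨z ≫ f, by rw [Category.assoc, hf, hz]⟩

/-- **A maximal torus of a reductive group without Weyl elements is central.** -/
theorem torus_central_of_no_weyl (hG : Red.IsReductiveOver k G) {T : Over (Spec (CommRingCat.of k))} [GrpObj T]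
    {iT : T ⟶ G} (hT : AGF.IsMaxTorus iT)
    (hW : ∀ (n : 𝟙_ (Over (Spec (CommRingCat.of k))) ⟶ G), Normalizes iT n → AGF.conjBy n iT = iT)
    {W : Over (Spec (CommRingCat.of k))} (t : W ⟶ T) (g : W ⟶ G) : g * (t ≫ iT) = (t ≫ iT) * g := by
  haveI := hG.1; haveI := hG.2.1; haveI := hG.2.2.1
  haveI := hT.1; haveI := hT.2.1
  obtain ⟨B, _, iB, tB, hB, htB⟩ := Groth.Agf2.Chev.exists_borel_containing iT hT
  obtain ⟨hmB, hcB, hsB, hnB, hsol, -⟩ := id hB
  haveI := hmB; haveI := hcB; haveI := hsB; haveI := hnB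
  haveI : Mono iB := Over.mono_of_mono_left iB
  haveI : IsAffine B.left := isAffine_of_isAffineHom iB.left
  obtain ⟨htm, π, hπm, hπ, habs⟩ := exists_retraction_of_isMaxTorus iB hsol hT tB htB
  haveI := htm; haveI := hπm
  obtain ⟨V, _, v, hvm, hvc, hVs, hVn, hVnorm, hVu, -, hv⟩ := exists_unipotentPart hT.2.2.1 tB π hπ habs
  haveI := hvm; haveI := hvc; haveI := hVs; haveI := hVn
  obtain ⟨U, _, u, hU, hUt⟩ := RedCent.exists_radical_trivial hG
  have : IsClosedImmersion (v ≫ iB).left := by rw [Over.comp_left]; infer_instance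
  obtain ⟨e, he⟩ := RedCent.unip_le_radical hU hT (v ≫ iB) hVu fun B' _ iB' t' hB' ht' => by
    haveI := hB'.1
    obtain ⟨n, τ, σ, hτ, hσ⟩ := Groth.Agent.S3912.result k G T B B' iT iB iB' hT hB hB' tB htB t' ht'
    obtain ⟨s, hs⟩ := mem_of_conjBy_eq hG hT n (hW n (normalizes_of_iso iT n τ hτ))
    refine ⟨v ≫ σ.hom ≫ AGF.conjBy (s ≫ t')⁻¹ (𝟙 B'), ?_⟩
    have h1 : AGF.conjBy (s ≫ t')⁻¹ (𝟙 B') ≫ iB' = AGF.conjBy n⁻¹ iB' := by
      rw [← conjBy_factor iB' (s ≫ t')⁻¹ (𝟙 B'), GrpObj.inv_comp, Category.assoc, ht', hs, Category.id_comp]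
    rw [Category.assoc, Category.assoc, h1, comp_conjBy', hσ, conjBy_conjBy, inv_mul_cancel, conjBy_one]
  haveI : Mono u := by
    haveI := hU.2.1
    exact Over.mono_of_mono_left u
  haveI := hU.1
  have hv1 : ∀ {X : Over (Spec (CommRingCat.of k))} (z : X ⟶ V), z ≫ v = 1 := fun {X} z => by
    rw [← cancel_mono iB, MonObj.one_comp, Category.assoc, ← he, RedCent.eq_one_of_trivial hUt e,
      MonObj.one_comp, MonObj.comp_one]
  have hπt : π ≫ tB = 𝟙 B := by
    obtain ⟨z, hz⟩ := (hv B (𝟙 B * (π ≫ tB)⁻¹)).2 (by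
      rw [MonObj.mul_comp, GrpObj.inv_comp, Category.assoc, hπ, Category.comp_id, Category.id_comp, mul_inv_cancel])
    exact (mul_inv_eq_one.1 (hz.symm.trans (hv1 z))).symm
  obtain ⟨X, a, o, h₁⟩ := Groth.Agent.S3279.result k G B iB
  have hX : AGF.IsQuotient iB X a o := ⟨h₁.1, h₁.2.2.1, h₁.2.2.2.1, h₁.2.2.2.2⟩
  haveI : IsProper X.hom := isProper_quotient_borel hB hX
  refine commute_of_invariant hX iT (fun W' t' h => ?_) W t g
  have h2 : h ≫ iB = (h ≫ π) ≫ iT := by
    rw [← htB, Category.assoc, ← Category.assoc π, hπt, Category.id_comp]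
  rw [h2]
  exact RedCent.torus_comm hT.2.2.1 _ _

end Weyl

end Groth.Agf2.WeylBasic
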