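import Groth.Agent.Agf2.WeylBasic
import Groth.Agent.Agf2.TorusGen

/-!
Weyl reflections of the weights of a maximal torus of a semisimple group over an algebraically closed field of
characteristic zero, and a Weyl element without fixed points.
-/

set_option autoImplicit false
set_option linter.style.haveILetI false
universe u

open CategoryTheory MonoidalCategory CartesianMonoidalCategory MonObj GrpObj AlgebraicGeometry
open scoped DualNumber

noncomputable section

namespace Groth.Agf2.WeylReflect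

open Groth.Agf Groth.RedX Groth.AlgGrp1 WeylBasic
open Groth.Agf2.TorusGrading (conjP Q theT incl)

variable {k : Type u} [Field k] {r : ℕ} {G : Over (S₀ k)} [GrpObj G]


/-- `φ` is induced by a point normalizing the torus. -/
def IsWeyl (j : Red.DS (S₀ k) (Fin r → ℤ) ⟶ G) (φ : (Fin r → ℤ) ≃+ (Fin r → ℤ)) : Prop :=
  ∃ n : 𝟙_ (Over (S₀ k)) ⟶ G, Normalizes j n ∧
    ∀ (B : Type u) [CommRing B] [Algebra k B] (χ : Multiplicative (Fin r → ℤ) →* Bˣ),
      tpt χ ≫ AGF.conjBy n j = tpt (χ.comp (AddMonoidHom.toMultiplicative φ.toAddMonoidHom)) ≫ j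

theorem isWeyl_refl (j : Red.DS (S₀ k) (Fin r → ℤ) ⟶ G) [IsMonHom j] : IsWeyl j (AddEquiv.refl (Fin r → ℤ)) := by
  refine ⟨1, ?_, fun B _ _ χ => by rw [conjBy_one]; rfl⟩
  have := normalizes_of_factor j (1 : 𝟙_ (Over (S₀ k)) ⟶ Red.DS (S₀ k) (Fin r → ℤ))
  rwa [MonObj.one_comp] at this

theorem IsWeyl.trans {j : Red.DS (S₀ k) (Fin r → ℤ) ⟶ G} {φ ψ : (Fin r → ℤ) ≃+ (Fin r → ℤ)} (h : IsWeyl j φ) (h' : IsWeyl j ψ) :
    IsWeyl j (ψ.trans φ) := by
  obtain ⟨n, hn, hφ⟩ := h
  obtain ⟨m, hm, hψ⟩ := h'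
  refine ⟨m * n, hm.mul hn, fun B _ _ χ => ?_⟩
  rw [← conjBy_conjBy, comp_conjBy', hφ, ← comp_conjBy', hψ]
  rfl

/-- For a subtorus of a maximal torus: either the torus is central in its centralizer, or some point normalizes the
torus, fixes the subtorus and moves the torus. -/
theorem central_or_exists_normalizes [IsAlgClosed k] [IsAffine G.left] (hG : Red.IsReductiveOver k G)
    {T S : Over (S₀ k)} [GrpObj T] [GrpObj S] (iT : T ⟶ G) (hT : AGF.IsMaxTorus iT) (p : S ⟶ T) [IsMonHom p]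
    [Mono p] (hS : Red.IsTorus S) :
    (∀ (W : Over (S₀ k)) (t : W ⟶ T) (g : W ⟶ G),
      (∀ (W' : Over (S₀ k)) (a : W' ⟶ W) (b : W' ⟶ S),
        (a ≫ g) * (b ≫ p ≫ iT) = (b ≫ p ≫ iT) * (a ≫ g)) → g * (t ≫ iT) = (t ≫ iT) * g) ∨
    ∃ n : 𝟙_ (Over (S₀ k)) ⟶ G, Normalizes iT n ∧ AGF.conjBy n iT ≠ iT ∧
      AGF.conjBy n (p ≫ iT) = p ≫ iT := by
  haveI := hG.2.1; haveI := hG.2.2.1
  haveI := hT.1; haveI := hT.2.1
  haveI : Mono (p ≫ iT) := mono_comp _ _
  obtain ⟨⟨C, _, c, hc, -, -⟩, -⟩ := Groth.Agent.S3006.result _ G _ (p ≫ iT)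
    (isClosedImmersion_of_isTorus (p ≫ iT) hS) hS
  haveI := hc.1; haveI := hc.2.1
  have hC := RedCent.isReductiveOver_centralizer hG (p ≫ iT) hS hc
  haveI := hC.1; haveI := hC.2.1; haveI := hC.2.2.1
  obtain ⟨tC, htC⟩ := (hc.2.2 _ iT).2 fun X' a b => by
    rw [← Category.assoc b p iT]
    exact RedCent.torus_comm hT.2.2.1 a (b ≫ p)
  haveI : IsMonHom tC := AlgGrp1.isMonHom_of_points _ fun X a b => by
    rw [← cancel_mono c, Category.assoc, htC, MonObj.mul_comp, MonObj.mul_comp, Category.assoc, htC,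
      Category.assoc, htC]
  haveI : Mono tC := by
    have : Mono (tC ≫ c) := by rw [htC]; infer_instance
    exact mono_of_mono tC c
  have hTC : AGF.IsMaxTorus tC := ⟨inferInstance, inferInstance, hT.2.2.1, fun T' _ q _ _ g hT' hg =>
    hT.2.2.2 T' (q ≫ c) g hT' (by rw [← Category.assoc, hg, htC])⟩
  by_cases hno : ∀ n : 𝟙_ (Over (S₀ k)) ⟶ C, Normalizes tC n → AGF.conjBy n tC = tC
  · refine Or.inl fun W t g hg => ?_
    obtain ⟨z, hz⟩ := (hc.2.2 _ g).2 fun X' a b => hg X' a b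
    rw [← hz, ← htC, ← Category.assoc, ← MonObj.mul_comp, ← MonObj.mul_comp,
      torus_central_of_no_weyl hC hTC hno t z]
  · push Not at hno
    obtain ⟨n, hn, hne⟩ := hno
    refine Or.inr ⟨n ≫ c, fun X' a q => ?_, fun h => hne ?_, ?_⟩
    · obtain ⟨⟨q₁, e₁⟩, ⟨q₂, e₂⟩⟩ := hn X' a q
      refine ⟨⟨q₁, ?_⟩, ⟨q₂, ?_⟩⟩
      · rw [← htC, ← Category.assoc, ← Category.assoc, ← Category.assoc, ← e₁, MonObj.mul_comp, MonObj.mul_comp,
          GrpObj.inv_comp]
      · rw [← htC, ← Category.assoc, ← Category.assoc, ← Category.assoc, ← e₂, MonObj.mul_comp, MonObj.mul_comp,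
          GrpObj.inv_comp]
    · rw [← htC, conjBy_factor] at h
      exact (cancel_mono c).1 h
    · have h2 := (hc.2.2 _ (n ≫ c)).1 ⟨n, rfl⟩ S (toUnit S) (𝟙 S)
      rw [Category.id_comp] at h2
      simp only [AGF.conjBy]
      rw [h2, mul_inv_cancel_right]

variable {j : Red.DS (S₀ k) (Fin r → ℤ) ⟶ G} [IsMonHom j] [Mono j]

omit [IsMonHom j] in
theorem char_eq_of_tpt {φ ψ : (Fin r → ℤ) →+ (Fin r → ℤ)}
    (h : ∀ (B : Type u) [CommRing B] [Algebra k B] (χ : Multiplicative (Fin r → ℤ) →* Bˣ),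
      tpt (k := k) (χ.comp (AddMonoidHom.toMultiplicative φ)) ≫ j =
        tpt (χ.comp (AddMonoidHom.toMultiplicative ψ)) ≫ j) : φ = ψ :=
  charMap_ext (k := k) fun B _ _ χ => (cancel_mono j).1 (h B χ)

theorem finite_isWeyl [IsAlgClosed k] [IsAffine G.left] [Smooth G.hom] (hT : Red.IsTorus (Red.DS (S₀ k) (Fin r → ℤ))) :
    Set.Finite {φ : (Fin r → ℤ) ≃+ (Fin r → ℤ) | IsWeyl j φ} := by
  let F := {f : Red.DS (S₀ k) (Fin r → ℤ) ⟶ G | ∃ n, Normalizes j n ∧ f = AGF.conjBy n j}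
  haveI : Finite F := (finite_conjBy_of_normalizes j hT).to_subtype
  let R : {φ : (Fin r → ℤ) ≃+ (Fin r → ℤ) | IsWeyl j φ} → F := fun φ =>
    ⟨AGF.conjBy φ.2.choose j, φ.2.choose, φ.2.choose_spec.1, rfl⟩
  have hR : Function.Injective R := fun φ ψ h => by
    refine Subtype.ext (AddEquiv.toAddMonoidHom_injective (char_eq_of_tpt (j := j) fun B _ _ χ => ?_))
    rw [← φ.2.choose_spec.2, ← ψ.2.choose_spec.2]
    exact congrArg (tpt χ ≫ ·) (congrArg Subtype.val h)
  exact Set.finite_coe_iff.1 (Finite.of_injective R hR)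

/-- Proper points normalizing the torus act through automorphisms of characters. -/
theorem exists_of_normalizes [IsAlgClosed k] [IsAffine G.left] [Smooth G.hom] (hT : AGF.IsMaxTorus j)
    (n : 𝟙_ (Over (S₀ k)) ⟶ G) (hn : Normalizes j n) :
    ∃ φ : (Fin r → ℤ) ≃+ (Fin r → ℤ), ∀ (B : Type u) [CommRing B] [Algebra k B] (χ : Multiplicative (Fin r → ℤ) →* Bˣ),
      tpt χ ≫ AGF.conjBy n j = tpt (χ.comp (AddMonoidHom.toMultiplicative φ.toAddMonoidHom)) ≫ j := by
  obtain ⟨c, hc⟩ := hn.exists_endo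
  haveI := isMonHom_conjBy n j
  haveI : IsMonHom c := AlgGrp1.isMonHom_of_points c fun W p q => by
    rw [← cancel_mono j, MonObj.mul_comp (p ≫ c), Category.assoc, Category.assoc, Category.assoc, hc,
      MonObj.mul_comp]
  haveI : IsIso c := (isMaxTorus_conjBy hT n).2.2.2 _ j c hT.2.2.1 hc
  obtain ⟨φ, hφ⟩ := exists_charEquiv c
  exact ⟨φ, fun B _ _ χ => by rw [← hc, ← Category.assoc, hφ]⟩

/-- An invariant form. -/
def form (W : Finset ((Fin r → ℤ) ≃+ (Fin r → ℤ))) (x y : (Fin r → ℤ)) : ℤ := ∑ w ∈ W, ∑ i, w x i * w y i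

section form

variable (W : Finset ((Fin r → ℤ) ≃+ (Fin r → ℤ)))

theorem form_comm (x y : (Fin r → ℤ)) : form W x y = form W y x := by simp [form, mul_comm]

theorem form_add (x x' y : (Fin r → ℤ)) : form W (x + x') y = form W x y + form W x' y := by
  simp [form, add_mul, Finset.sum_add_distrib]

theorem form_smul (a : ℤ) (x y : (Fin r → ℤ)) : form W (a • x) y = a * form W x y := by
  simp only [form, map_zsmul, Pi.smul_apply, smul_eq_mul, Finset.mul_sum, _root_.mul_assoc]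

theorem form_sub (x x' y : (Fin r → ℤ)) : form W (x - x') y = form W x y - form W x' y := by
  simp [form, sub_mul, Finset.sum_sub_distrib]

theorem form_neg_right (x y : (Fin r → ℤ)) : form W x (-y) = -form W x y := by simp [form]

theorem form_pos (h1 : AddEquiv.refl (Fin r → ℤ) ∈ W) {x : (Fin r → ℤ)} (h : form W x x = 0) : x = 0 := by
  have h2 := (Finset.sum_eq_zero_iff_of_nonneg fun w _ => Finset.sum_nonneg fun i _ => mul_self_nonneg (w x i)).1 h
    _ h1
  funext i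
  exact mul_self_eq_zero.1 ((Finset.sum_eq_zero_iff_of_nonneg fun i _ => mul_self_nonneg (x i)).1 h2 i
    (Finset.mem_univ i))

theorem form_invariant {φ : (Fin r → ℤ) ≃+ (Fin r → ℤ)} (hW : ∀ w ∈ W, φ.trans w ∈ W) (x y : (Fin r → ℤ)) :
    form W (φ x) (φ y) = form W x y := by
  classical
  have hinj : Function.Injective fun w : (Fin r → ℤ) ≃+ (Fin r → ℤ) => φ.trans w := fun a b h =>
    AddEquiv.ext fun z => by simpa using DFunLike.congr_fun h (φ.symm z)
  have himg : W.image (fun w => φ.trans w) = W :=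
    Finset.eq_of_subset_of_card_le (Finset.image_subset_iff.2 hW) (by rw [Finset.card_image_of_injective _ hinj])
  conv_rhs => rw [form, ← himg, Finset.sum_image fun a _ b _ h => hinj h]
  rfl

theorem form_hom_right (x : (Fin r → ℤ)) : ∃ ψ : (Fin r → ℤ) →+ ℤ, ∀ y, ψ y = form W x y :=
  ⟨AddMonoidHom.mk' (form W x) fun a b => by rw [form_comm, form_add, form_comm W a, form_comm W b], fun _ => rfl⟩

end form

/-- A proper sublattice map killing exactly a line. -/
theorem exists_line_quot {m : (Fin r → ℤ)} (hm : m ≠ 0) :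
    ∃ (M' : Type) (_ : AddCommGroup M') (_ : Module.Finite ℤ M') (_ : Module.Free ℤ M') (π : (Fin r → ℤ) →+ M')
      (a : ℤ), a ≠ 0 ∧ Function.Surjective π ∧ π m = 0 ∧ ∀ x, π x = 0 → ∃ b : ℤ, a • x = b • m := by
  obtain ⟨i₀, hi₀⟩ := Function.ne_iff.1 hm
  let P : (Fin r → ℤ) →ₗ[ℤ] (Fin r → ℤ) :=
    { toFun := fun x i => m i₀ * x i - m i * x i₀
      map_add' := fun x y => funext fun i => by simp; ring
      map_smul' := fun c x => funext fun i => by simp; ring }
  refine ⟨LinearMap.range P, inferInstance, inferInstance, inferInstance, P.rangeRestrict.toAddMonoidHom, m i₀,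
    by simpa using hi₀, P.surjective_rangeRestrict, Subtype.ext (funext fun i => by simp [P]; ring),
    fun x hx => ⟨x i₀, funext fun i => ?_⟩⟩
  have h1 := congrFun (congrArg Subtype.val hx) i
  simp [P] at h1 ⊢
  linarith

section Main

variable [IsAlgClosed k] [IsAffine G.left]

theorem mono_DSmap {M N : Type} [AddCommGroup M] [AddCommGroup N] (π : M →+ N) (hπ : Function.Surjective π) :
    Mono (Red.DSmap (S₀ k) π) := ⟨fun {X} a b h => hom_ext_pt a b fun B _ _ y => by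
  obtain ⟨χa, ha⟩ := exists_tpt (y ≫ a)
  obtain ⟨χb, hb⟩ := exists_tpt (y ≫ b)
  have h1 := congrArg (y ≫ ·) h
  simp only [← Category.assoc] at h1
  rw [← ha, ← hb, tpt_DSmap, tpt_DSmap] at h1
  rw [← ha, ← hb]
  congr 1
  refine MonoidHom.ext fun n => ?_
  obtain ⟨x, hx⟩ := hπ n.toAdd
  have h2 := DFunLike.congr_fun (tpt_injective h1) (Multiplicative.ofAdd x)
  simpa [hx] using h2⟩

/-- **Reflection in a weight.** -/
theorem exists_reflection (hG : Red.IsReductiveOver k G) (hT : AGF.IsMaxTorus j) (W : Finset ((Fin r → ℤ) ≃+ (Fin r → ℤ)))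
    (hW : ∀ φ, φ ∈ W ↔ IsWeyl j φ) {m : (Fin r → ℤ)} (hm : m ≠ 0) {f : Fn G}
    (hf : Q j (Multiplicative.ofAdd m) f ∉ (augI G) ^ 2) :
    ∃ φ ∈ W, φ m = -m ∧ ∀ x, ∃ a b : ℤ, a ≠ 0 ∧ a • (φ x - x) = b • m := by
  haveI := hG.2.1; haveI := hG.2.2.1
  haveI := hT.1; haveI := hT.2.1
  obtain ⟨M', _, _, _, π, a, ha, hπ, hπm, hker⟩ := exists_line_quot hm
  haveI := Groth.RedX.isMonHom_DSmap' (S := S₀ k) π
  haveI := mono_DSmap (k := k) π hπ
  have hS : Red.IsTorus (Red.DS (S₀ k) M') := isTorus_DS _ _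
  rcases central_or_exists_normalizes hG j hT (Red.DSmap (S₀ k) π) hS with hcen | ⟨n, hn, hne, hnS⟩
  · exfalso
    obtain ⟨x, hx, hxne⟩ := TorusGrading.exists_tangent j (m := Multiplicative.ofAdd m) (by simpa using hm) hf
    apply hxne
    rw [conjP, mul_inv_eq_iff_eq_mul]
    refine (hcen _ _ _ fun X' p q => hom_ext_pt _ _ fun B _ _ y => ?_).symm
    obtain ⟨φ, hφ⟩ := exists_ptMap (y ≫ p ≫ VecGrp.ptMap (incl k (Fin r → ℤ) k[ε]))
    obtain ⟨χ, hχ⟩ := exists_tpt (y ≫ q)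
    have h1 := hx B φ (χ.comp (AddMonoidHom.toMultiplicative π)) (by
      show χ (Multiplicative.ofAdd (π m)) = 1
      rw [hπm]; exact map_one χ)
    rw [conjP, mul_inv_eq_iff_eq_mul, hφ] at h1
    simp only [MonObj.comp_mul, ← Category.assoc, ← hχ, tpt_DSmap]
    simp only [← Category.assoc] at h1
    exact h1.symm
  · obtain ⟨φ, hφ'⟩ := exists_of_normalizes (j := j) hT n hn
    have hWφ : φ ∈ W := (hW φ).2 ⟨n, hn, hφ'⟩
    have hfix : π.comp φ.toAddMonoidHom = π := charMap_ext (k := k) fun B _ _ χ => by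
      have h1 := hφ' B (χ.comp (AddMonoidHom.toMultiplicative π))
      rw [comp_conjBy'] at h1
      have h3 := congrArg (tpt χ ≫ ·) hnS
      simp only [comp_conjBy', ← Category.assoc, tpt_DSmap] at h3
      rw [h3] at h1
      exact ((cancel_mono j).1 h1).symm
    have hline : ∀ x, ∃ b : ℤ, a • (φ x - x) = b • m := fun x => hker _ (by
      rw [map_sub, sub_eq_zero]; exact DFunLike.congr_fun hfix x)
    have hinv := form_invariant W (φ := φ) fun w hw => (hW _).2 (((hW w).1 hw).trans ((hW φ).1 hWφ))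
    have h1 : AddEquiv.refl (Fin r → ℤ) ∈ W := (hW _).2 (isWeyl_refl j)
    refine ⟨φ, hWφ, ?_, fun x => ⟨a, (hline x).choose, ha, (hline x).choose_spec⟩⟩
    obtain ⟨b, hb⟩ := hline m
    have hmm : form W m m ≠ 0 := fun h => hm (form_pos W h1 h)
    have hb' : a • φ m = (a + b) • m := by rw [add_smul, ← hb, smul_sub]; abel
    have hsq : (a + b) * (a + b) = a * a := by
      have h2 : form W (a • φ m) (a • φ m) = form W ((a + b) • m) ((a + b) • m) := by rw [hb']
      simp only [form_smul, form_comm W _ (_ • _), hinv] at h2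
      exact mul_right_cancel₀ hmm (by linear_combination -h2)
    rcases mul_self_eq_mul_self_iff.1 hsq with hb0 | hb2
    · exfalso
      apply hne
      have hm0 : φ m = m := smul_right_injective (Fin r → ℤ) ha (hb'.trans (by rw [hb0]))
      have hid : φ.toAddMonoidHom = AddMonoidHom.id (Fin r → ℤ) := AddMonoidHom.ext fun x => by
        obtain ⟨d, hd⟩ := hline x
        have h3 : form W (a • (φ x - x)) m = 0 := by
          rw [form_smul, form_sub]
          conv_lhs => arg 2; arg 1; rw [← hm0]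
          rw [hinv, sub_self, mul_zero]
        rw [hd, form_smul] at h3
        rcases mul_eq_zero.1 h3 with h | h
        · rw [h, zero_smul] at hd
          exact sub_eq_zero.1 ((smul_eq_zero.1 hd).resolve_left ha)
        · exact absurd h hmm
      refine hom_ext_pt _ _ fun B _ _ y => ?_
      obtain ⟨χ, hχ⟩ := exists_tpt y
      rw [← hχ, hφ', hid]
      rfl
    · rw [hb2, neg_smul, ← smul_neg] at hb'
      exact smul_right_injective (Fin r → ℤ) ha hb'

/-- **A central cocharacter of a semisimple group is trivial.** -/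
theorem eq_zero_of_kills [CharZero k] (hG : Red.IsSemisimpleOver k G) (ψ : (Fin r → ℤ) →+ ℤ)
    (hψ : ∀ (m : (Fin r → ℤ)) (f : Fn G), ψ m ≠ 0 → Q j (Multiplicative.ofAdd m) f ∈ (augI G) ^ 2) : ψ = 0 := by
  haveI := hG.1.2.1; haveI := hG.1.2.2.1
  by_contra hψ0
  obtain ⟨d, hd⟩ := Int.subgroup_cyclic ψ.range
  rw [← AddSubgroup.zmultiples_eq_closure] at hd
  have hdvd : ∀ x, d ∣ ψ x := fun x => by
    have : ψ x ∈ AddSubgroup.zmultiples d := hd ▸ ⟨x, rfl⟩
    exact Int.mem_zmultiples_iff.1 this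
  have hd0 : d ≠ 0 := fun h0 => hψ0 (AddMonoidHom.ext fun x => by simpa [h0] using hdvd x)
  let ψ' : (Fin r → ℤ) →+ ℤ := AddMonoidHom.mk' (fun x => ψ x / d) fun x y => by
    rw [map_add, Int.add_ediv_of_dvd_left (hdvd x)]
  have hsurj : Function.Surjective ψ' := fun n => by
    obtain ⟨x, hx⟩ : d ∈ ψ.range := hd ▸ AddSubgroup.mem_zmultiples d
    refine ⟨n • x, ?_⟩
    show ψ (n • x) / d = n
    rw [map_zsmul, hx, smul_eq_mul, Int.mul_ediv_cancel _ hd0]
  haveI := Groth.RedX.isMonHom_DSmap' (S := S₀ k) ψ'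
  haveI := mono_DSmap (k := k) ψ' hsurj
  let i : Red.Gm (S₀ k) ⟶ G := Red.DSmap (S₀ k) ψ' ≫ j
  haveI : IsMonHom i := inferInstance
  haveI : Mono i := mono_comp _ _
  have hS : Red.IsTorus (Red.Gm (S₀ k)) := isTorus_DS _ _
  haveI := Groth.AlgGrp1.isIntegral_of_smooth G
  haveI : IsNoetherianRing (Fn G) := by
    haveI := fn_finiteType G
    exact Algebra.FiniteType.isNoetherianRing k _
  haveI : IsDomain (Fn G) := inferInstance
  have hcen : AlgGrp.IsNormalHom i := fun X g s => ⟨s, hom_ext_pt _ _ fun B _ _ y => by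
    obtain ⟨χ, hχ⟩ := exists_tpt (y ≫ s)
    have h1 := conj_cochar j ψ' (fun m f hm => hψ m.toAdd f fun h0 => hm (by
      show ψ m.toAdd / d = 0
      rw [h0, Int.zero_ediv])) (y ≫ g) χ
    rw [conjP, mul_inv_eq_iff_eq_mul] at h1
    simp only [MonObj.comp_mul, GrpObj.comp_inv, ← Category.assoc, ← hχ, i, tpt_DSmap]
    rw [← h1, mul_inv_cancel_right]⟩
  have htriv := hG.2 _ i (isClosedImmersion_of_isTorus i hS) hcen hS
  have h1 : tpt (k := k) (MonoidAlgebra.of k (Multiplicative ℤ)).toHomUnits = tpt 1 := by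
    rw [tpt_one]
    exact RedCent.eq_one_of_trivial htriv _
  have h2 := congrArg (fun χ : Multiplicative ℤ →* (MonoidAlgebra k (Multiplicative ℤ))ˣ =>
    (χ (Multiplicative.ofAdd 1) : MonoidAlgebra k (Multiplicative ℤ))) (tpt_injective h1)
  simp only [MonoidHom.coe_toHomUnits, MonoidHom.one_apply, Units.val_one] at h2
  exact absurd (MonoidAlgebra.of_injective (h2.trans (map_one _).symm)) (by decide)

/-- **A Weyl element without fixed points.** -/
theorem exists_fixedPointFree [CharZero k] (hG : Red.IsSemisimpleOver k G) (hT : AGF.IsMaxTorus j) :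
    ∃ φ : (Fin r → ℤ) ≃+ (Fin r → ℤ), IsWeyl j φ ∧ (∀ x, φ x = x → x = 0) := by
  classical
  haveI := hG.1.2.1; haveI := hG.1.2.2.1
  let W := (finite_isWeyl (j := j) hT.2.2.1).toFinset
  have hW : ∀ φ, φ ∈ W ↔ IsWeyl j φ := fun φ => Set.Finite.mem_toFinset _
  have h1 : AddEquiv.refl (Fin r → ℤ) ∈ W := (hW _).2 (isWeyl_refl j)
  have hinv : ∀ φ ∈ W, ∀ x y, form W (φ x) (φ y) = form W x y := fun φ hφ => form_invariant W fun w hw =>
    (hW _).2 (((hW w).1 hw).trans ((hW φ).1 hφ))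
  -- automorphisms whose fixed points are an orthogonal space
  let Good := {φ ∈ W | ∃ l : Set (Fin r → ℤ), (∀ m ∈ l, ∀ v, φ v = v → form W v m = 0) ∧
    ∀ v, (∀ m ∈ l, form W v m = 0) → φ v = v}
  have hne : Good.Nonempty := ⟨AddEquiv.refl (Fin r → ℤ), Finset.mem_filter.2 ⟨h1, ∅, by simp, fun v _ => rfl⟩⟩
  obtain ⟨φ, hφ, hmin⟩ := Finset.exists_minimal (hne.image fun φ : (Fin r → ℤ) ≃+ (Fin r → ℤ) => {v : (Fin r → ℤ) | φ v = v}) |> fun
    ⟨S, hS⟩ => (by
      obtain ⟨φ, hφ, rfl⟩ := Finset.mem_image.1 hS.1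
      exact ⟨φ, hφ, hS⟩ : ∃ φ ∈ Good,
        Minimal (· ∈ Good.image fun φ : (Fin r → ℤ) ≃+ (Fin r → ℤ) => {v : (Fin r → ℤ) | φ v = v}) {v : (Fin r → ℤ) | φ v = v})
  obtain ⟨hφW, l, hl, hl'⟩ := Finset.mem_filter.1 hφ
  refine ⟨φ, (hW φ).1 hφW, fun v hv => ?_⟩
  obtain ⟨ψ, hψ⟩ := form_hom_right W v
  suffices hh : ∀ (m : (Fin r → ℤ)) (f : Fn G), Q j (Multiplicative.ofAdd m) f ∉ (augI G) ^ 2 → form W v m = 0 by
    have h0 := eq_zero_of_kills hG ψ fun m f hm => by
      by_contra hc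
      exact hm ((hψ m).trans (hh m f hc))
    exact form_pos W h1 ((hψ v).symm.trans (DFunLike.congr_fun h0 v))
  intro m f hf
  rcases eq_or_ne m 0 with rfl | hm
  · have := form_smul W 0 0 v
    simpa [form_comm W v] using this
  by_contra hvm
  obtain ⟨rr, hr, hrm, hrl⟩ := exists_reflection hG.1 hT W hW hm hf
  have hvl : ∀ y, (∀ p ∈ l, form W y p = 0) → φ y = y := hl'
  -- the composite
  let φ' := φ.trans rr
  have hφ'W : φ' ∈ W := (hW _).2 (((hW rr).1 hr).trans ((hW φ).1 hφW))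
  have key : ∀ w, φ' w = w → φ w = w ∧ form W w m = 0 := by
    intro w hw
    have hw' : rr (φ w) = w := hw
    obtain ⟨a, b, ha, hab⟩ := hrl (φ w)
    rw [hw'] at hab
    have h2 : form W (a • (w - φ w)) v = 0 := by
      rw [form_smul, form_sub]
      conv_lhs => arg 2; arg 2; rw [← hv]
      rw [hinv φ hφW, sub_self, mul_zero]
    rw [hab, form_smul, form_comm W m] at h2
    have hb : b = 0 := (mul_eq_zero.1 h2).resolve_right hvm
    rw [hb, zero_smul] at hab
    have hwe : φ w = w := (sub_eq_zero.1 ((smul_eq_zero.1 hab).resolve_left ha)).symm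
    refine ⟨hwe, ?_⟩
    rw [hwe] at hw'
    have h3 := hinv rr hr w m
    rw [hw', hrm, form_neg_right] at h3
    omega
  have hgood : φ' ∈ Good := by
    refine Finset.mem_filter.2 ⟨hφ'W, insert m l, fun p hp w hw => ?_, fun w hw => ?_⟩
    · rcases hp with rfl | hp
      · exact (key w hw).2
      · exact hl p hp w (key w hw).1
    · have hwφ := hvl w fun p hp => hw p (Set.mem_insert_of_mem _ hp)
      show rr (φ w) = w
      rw [hwφ]
      obtain ⟨a, b, ha, hab⟩ := hrl w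
      have h2 : form W (a • (rr w - w)) m = 0 := by
        have h3 := hinv rr hr w m
        rw [hrm, form_neg_right, hw m (Set.mem_insert _ _)] at h3
        rw [form_smul, form_sub, hw m (Set.mem_insert _ _), sub_zero, neg_eq_zero.1 h3, mul_zero]
      rw [hab, form_smul] at h2
      have hmm : form W m m ≠ 0 := fun h => hm (form_pos W h1 h)
      rw [(mul_eq_zero.1 h2).resolve_right hmm, zero_smul] at hab
      exact sub_eq_zero.1 ((smul_eq_zero.1 hab).resolve_left ha)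
  have hle : {w : (Fin r → ℤ) | φ' w = w} ⊆ {w : (Fin r → ℤ) | φ w = w} := fun w hw => (key w hw).1
  exact hvm (key v (hmin.2 (Finset.mem_image_of_mem _ hgood) hle hv)).2

end Main

end Groth.Agf2.WeylReflect
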